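import Groth.Prelude.Def_DualSch
import Groth.Agent.Lib.DMod.SkCriterion
import Groth.Agent.Lib.Modules.Local
import Groth.Agent.Lib.Perfect.TildeD
import Groth.Agent.Lib.Goren.Flat
import Groth.Agent.Lib.Excellent.Transport

/-!
# Dualizing complexes on schemes, read on affine charts
-/

set_option autoImplicit false
set_option linter.style.haveILetI false

universe u

open CategoryTheory CategoryTheory.Limits AlgebraicGeometry

attribute [local instance] HasDerivedCategory.standard

namespace Groth.Agent.Lib.DualSch.Affine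

open Groth.Agent.Lib

/-- Stalks of `tilde` are localizations. -/
theorem nontrivial_tilde_stalk_iff (R : CommRingCat.{u}) (M : ModuleCat.{u} R) (x : PrimeSpectrum.Top R) :
    Nontrivial ((tilde M).presheaf.stalk x) ↔ (x : PrimeSpectrum R) ∈ Module.support R M := by
  let p : PrimeSpectrum R := x
  haveI : x.asIdeal.IsPrime := p.isPrime
  rw [show ((x : PrimeSpectrum R) ∈ Module.support R M ↔ Nontrivial (LocalizedModule x.asIdeal.primeCompl M))
    from Module.mem_support_iff]
  exact (IsLocalizedModule.iso x.asIdeal.primeCompl (tilde.toStalk M x).hom).toEquiv.nontrivial_congr.symm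

variable {X : Scheme.{u}} {A : Type u} [CommRing A] (j : Spec (CommRingCat.of A) ⟶ X)
  [IsOpenImmersion j] [PreservesFiniteLimits (Scheme.Modules.restrictFunctor j)]
  [PreservesFiniteLimits (tilde.functor (CommRingCat.of A))] {K : DCoh.D X} {ω : Dual.D A}
  (e : (DCoh.restrictD j).obj K ≅ (DCoh.tildeD (CommRingCat.of A)).obj ω)

include e in
/-- The cohomology sheaves on the chart. -/
theorem nonempty_HD_iso (i : ℤ) : Nonempty ((DCoh.HD K i).restrict j ≅
    (tilde.functor (CommRingCat.of A)).obj (ModuleCat.of A (Dual.HD A ω i))) :=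
  ⟨(Perfect.Coherent.homologyIso j K i).symm ≪≫
    (DerivedCategory.homologyFunctor _ i).mapIso e ≪≫ Perfect.TildeD.HIso (R := CommRingCat.of A) ω i⟩

include e in
/-- The support of the cohomology sheaves on the chart. -/
theorem nontrivial_stalk_iff (i : ℤ) (p : PrimeSpectrum A) :
    Nontrivial ((DCoh.HD K i).presheaf.stalk (j p)) ↔
      p ∈ Module.support A (Dual.HD A ω i) := by
  let q : ↥(Spec (CommRingCat.of A)) := p
  show Nontrivial ((DCoh.HD K i).presheaf.stalk (j q)) ↔ _
  obtain ⟨φ⟩ := nonempty_HD_iso j e i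
  let M : ModuleCat.{u} (CommRingCat.of A) := ModuleCat.of A (Dual.HD A ω i)
  let e₁ : (DCoh.HD K i).presheaf.stalk (j q) ≅ (tilde M).presheaf.stalk q :=
    ((Modules.Local.restrictStalkIso j q).app (DCoh.HD K i)).symm ≪≫
      (Modules.Stalk.stalkFunctor (Spec (CommRingCat.of A)) q).mapIso φ
  rw [e₁.addCommGroupIsoToAddEquiv.toEquiv.nontrivial_congr]
  exact nontrivial_tilde_stalk_iff (CommRingCat.of A) M q

omit [PreservesFiniteLimits (Scheme.Modules.restrictFunctor j)]
  [PreservesFiniteLimits (tilde.functor (CommRingCat.of A))] in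
/-- The local rings on the chart. -/
theorem nonempty_stalk_equiv (p : PrimeSpectrum A) :
    Nonempty (X.presheaf.stalk (j p) ≃+* Localization.AtPrime p.asIdeal) := by
  let q : ↥(Spec (CommRingCat.of A)) := p
  show Nonempty (X.presheaf.stalk (j q) ≃+* _)
  letI : Algebra A ((Spec (CommRingCat.of A)).presheaf.stalk q) :=
    StructureSheaf.stalkAlgebra (CommRingCat.of A) q
  haveI : IsLocalization.AtPrime ((Spec (CommRingCat.of A)).presheaf.stalk q) p.asIdeal :=
    StructureSheaf.IsLocalization.to_stalk (CommRingCat.of A) q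
  exact ⟨(asIso (j.stalkMap q)).commRingCatIsoToRingEquiv.trans
    (IsLocalization.algEquiv p.asIdeal.primeCompl _ (Localization.AtPrime p.asIdeal)).toRingEquiv⟩

/-- Cohen-Macaulay at a prime iff exactly one cohomology module of a dualizing complex lives there. -/
theorem cohenMacaulay_iff_existsUnique {B : Type u} [CommRing B] {τ : Dual.D B}
    (hτ : Dual.IsDualizing B τ) (p : PrimeSpectrum B) :
    LocCoh.IsCohenMacaulayLocalRing (Localization.AtPrime p.asIdeal) ↔
      ∃! i : ℤ, p ∈ Module.support B (Dual.HD B τ i) := by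
  haveI := hτ.isNoetherianRing
  have hp : p ∈ Module.support B B := by
    rw [Module.support_eq_zeroLocus, Module.annihilator_eq_bot.mpr inferInstance,
      Submodule.bot_coe, PrimeSpectrum.zeroLocus_singleton_zero]
    trivial
  have heq : ∀ i, Module.support B (Dual.inD B B ⟶ τ⟦i⟧) = Module.support B (Dual.HD B τ i) :=
    fun i => LinearEquiv.support_eq (DMod.Basic.homUnitShiftEquiv τ i)
  rw [DMod.SkCriterion.isCohenMacaulayLocalRing_iff,
    DMod.SkCriterion.isCohenMacaulay_at_iff hτ p B hp]
  obtain ⟨n, d, -, -, -, hn, -, -⟩ := DMod.SkCriterion.exists_depth_dim hτ p B hp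
  simp only [heq] at hn ⊢
  exact ⟨fun h => ⟨_, hn, fun i hi => h i _ hi hn⟩, fun h i j hi hj => h.unique hi hj⟩

include e in
/-- Cohen-Macaulay points on the chart. -/
theorem cohenMacaulay_stalk_iff (hω : Dual.IsDualizing A ω) (p : PrimeSpectrum A) :
    LocCoh.IsCohenMacaulayLocalRing (X.presheaf.stalk (j p)) ↔
      ∃! i : ℤ, Nontrivial ((DCoh.HD K i).presheaf.stalk (j p)) := by
  simp only [nontrivial_stalk_iff j e _ p]
  rw [← cohenMacaulay_iff_existsUnique hω p]
  obtain ⟨ε⟩ := nonempty_stalk_equiv j p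
  exact ⟨fun h => haveI := h; Excellent.Transport.isCohenMacaulayLocalRing_of_ringEquiv ε,
    fun h => haveI := h; Excellent.Transport.isCohenMacaulayLocalRing_of_ringEquiv ε.symm⟩

end Groth.Agent.Lib.DualSch.Affine
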