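import Groth.Agent.Lib.DualSch.Invertible

/-!
# Dualizing complexes are invertible near Gorenstein points
-/

set_option autoImplicit false
set_option linter.style.haveILetI false

universe u

open CategoryTheory CategoryTheory.Limits AlgebraicGeometry

attribute [local instance] HasDerivedCategory.standard

namespace Groth.Agent.Lib.DualSch.Trivial

open Groth.Agent.Lib Perfect.Basic

section Ring

variable {A : Type u} [CommRing A]

/-- A finite module free of rank one at `p` is cyclic and faithful near `p`. -/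
theorem locCyclic_of_free_rank_one (p : PrimeSpectrum A) (M : Type u) [AddCommGroup M] [Module A M]
    [Module.Finite A M] (hfree : p ∈ Module.freeLocus A M) (hrk : Module.rankAtStalk M p = 1) :
    DMod.InvertibleLocal.LocCyclic p.asIdeal M := by
  let S := p.asIdeal.primeCompl
  haveI : Module.Free (Localization S) (LocalizedModule S M) := hfree
  let e : LocalizedModule S M ≃ₗ[Localization S] Localization S :=
    (Module.basisUnique (Fin 1) (show Module.finrank (Localization S) (LocalizedModule S M) = 1 by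
      exact_mod_cast hrk)).equivFun.trans (LinearEquiv.funUnique (Fin 1) (Localization S) (Localization S))
  let f := LocalizedModule.mkLinearMap S M
  obtain ⟨⟨x, s⟩, hxs⟩ := IsLocalizedModule.surj S f (e.symm 1)
  have hxs' : algebraMap A (Localization S) s.1 • e.symm 1 = f x := by
    rw [IsScalarTower.algebraMap_smul]
    exact hxs
  have hx : e (f x) = algebraMap A (Localization S) s.1 := by
    rw [← hxs', map_smul, LinearEquiv.apply_symm_apply, smul_eq_mul, mul_one]
  have he : ∀ (b : A) (z : LocalizedModule S M), e (b • z) = algebraMap A (Localization S) b * e z :=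
    fun b z => by rw [← IsScalarTower.algebraMap_smul (Localization S) b z, map_smul, smul_eq_mul]
  refine ⟨x, fun y => ?_, fun a ha => ?_⟩
  · obtain ⟨⟨a, t⟩, hat⟩ := IsLocalization.surj S (e (f y))
    have h1 : f ((t.1 * s.1) • y) = f (a • x) := by
      refine e.injective ?_
      rw [map_smul f, map_smul f, he, he, hx, map_mul, ← hat]
      ring
    obtain ⟨u, hu⟩ := IsLocalizedModule.exists_of_eq (S := S) h1
    refine ⟨u.1 * (t.1 * s.1), u.1 * a, (u * (t * s)).2, ?_⟩
    simp only [Submonoid.smul_def, smul_smul] at hu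
    exact hu
  · have h1 : algebraMap A (Localization S) (a * s.1) = 0 := by
      rw [map_mul, ← hx, ← he, ← map_smul f, ha, map_zero f]
      exact map_zero e
    obtain ⟨u, hu⟩ := (IsLocalization.map_eq_zero_iff S _ _).1 h1
    exact ⟨u.1 * s.1, (u * s).2, by rw [mul_assoc, mul_comm s.1 a]; exact hu⟩

end Ring

section Sheaf

variable {A : Type u} [CommRing A]

/-- The support of `N~`. -/
theorem mem_support_tilde (R : CommRingCat.{u}) (N : ModuleCat.{u} R) (q : PrimeSpectrum.Top R) :
    q ∈ CohB1.support ((tilde.functor R).obj N) ↔ (q : PrimeSpectrum R) ∈ Module.support R N := by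
  rw [← Affine.nontrivial_tilde_stalk_iff R N q, ← not_subsingleton_iff_nontrivial]
  rfl

/-- `φ~` is an isomorphism on an open avoiding the supports of kernel and cokernel. -/
theorem isIso_restrict_tilde (R : CommRingCat.{u}) [PreservesFiniteLimits (tilde.functor R)]
    {M N : ModuleCat.{u} R} (φ : M ⟶ N) (V : (Spec R).Opens)
    (hk : ∀ q ∈ V, (q : PrimeSpectrum R) ∉ Module.support R (LinearMap.ker φ.hom))
    (hc : ∀ q ∈ V, (q : PrimeSpectrum R) ∉ Module.support R (N ⧸ LinearMap.range φ.hom)) :
    IsIso ((Scheme.Modules.restrictFunctor V.ι).map ((tilde.functor R).map φ)) := by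
  have hs : ∀ {P Q : (Spec R).Modules}, (P ≅ Q) → ∀ q, q ∈ CohB1.support P → q ∈ CohB1.support Q :=
    fun i q h => fun hs => h
      (((Modules.Stalk.stalkFunctor _ q).mapIso i).addCommGroupIsoToAddEquiv.toEquiv.subsingleton_congr.2 hs)
  refine Perfect.Regular.isIso_restrict_of_not_mem _ V (fun q hq h => ?_) (fun q hq h => ?_)
  · exact hk q hq ((mem_support_tilde R _ q).1 (hs ((PreservesKernel.iso (tilde.functor R) φ).symm ≪≫
      (tilde.functor R).mapIso (ModuleCat.kernelIsoKer φ)) q h))
  · exact hc q hq ((mem_support_tilde R _ q).1 (hs ((PreservesCokernel.iso (tilde.functor R) φ).symm ≪≫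
      (tilde.functor R).mapIso (ModuleCat.cokernelIsoRangeQuotient φ)) q h))

/-- An object with a single cohomology sheaf, isomorphic to the structure sheaf. -/
theorem nonempty_iso_shift {U : Scheme.{u}} (T : DCoh.D U) (c : ℤ)
    (h0 : ∀ i, i ≠ c → IsZero (DCoh.HD T i))
    (h1 : Nonempty (DCoh.HD T c ≅ Coh.structureModule U)) :
    Nonempty (T ≅ (DCoh.inD U (Coh.structureModule U))⟦-c⟧) := by
  haveI : T.IsGE c := (DerivedCategory.isGE_iff T c).2 fun i hi => h0 i (by lia)
  haveI : T.IsLE c := (DerivedCategory.isLE_iff T c).2 fun i hi => h0 i (by lia)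
  obtain ⟨Y, ⟨e⟩⟩ := DerivedCategory.exists_iso_singleFunctor_obj_of_isGE_of_isLE T c
  obtain ⟨e1⟩ := h1
  let eY : Y ≅ Coh.structureModule U :=
    ((DerivedCategory.singleFunctorCompHomologyFunctorIso U.Modules c).app Y).symm ≪≫
      (DerivedCategory.homologyFunctor U.Modules c).mapIso e.symm ≪≫ e1
  exact ⟨e ≪≫ (DerivedCategory.singleFunctor U.Modules c).mapIso eY ≪≫
    (((DerivedCategory.singleFunctors U.Modules).shiftIso (-c) c 0 (by lia)).app _).symm⟩

/-- Near a Gorenstein point a dualizing complex is a shift of the structure sheaf. -/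
theorem exists_trivial_nhd [PreservesFiniteLimits (tilde.functor (CommRingCat.of A))]
    {ω : Dual.D A} (hω : Dual.IsDualizing A ω) (p : PrimeSpectrum A)
    (hp : LocCoh.IsGorensteinLocalRing (Localization.AtPrime p.asIdeal)) :
    ∃ (V : (Spec (CommRingCat.of A)).Opens) (n : ℤ), (p : ↥(Spec (CommRingCat.of A))) ∈ V ∧
      Nonempty ((RD V.ι).obj ((DCoh.tildeD (CommRingCat.of A)).obj ω) ≅
        (DCoh.inD (V : Scheme.{u}) (Coh.structureModule (V : Scheme.{u})))⟦n⟧) := by
  haveI := hω.isNoetherianRing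
  obtain ⟨c, hc, hfree, hrk⟩ := (DMod.GorLocus.mem_iff hω p).1 hp
  obtain ⟨hfin, a, b, hab⟩ := DMod.FlatDualizing.bddFin_of_dualizing hω
  haveI := hω.finite_cohomology c
  obtain ⟨x, hx1, hx2⟩ := locCyclic_of_free_rank_one p (Dual.HD A ω c) hfree hrk
  let φ : A →ₗ[A] Dual.HD A ω c := LinearMap.toSpanSingleton A _ x
  have hpk : p ∉ Module.support A (LinearMap.ker φ) := Module.notMem_support_iff'.2 fun ⟨r, hr⟩ => by
    obtain ⟨s, hs, hsr⟩ := hx2 r hr
    exact ⟨s, hs, Subtype.ext hsr⟩
  have hpc : p ∉ Module.support A (Dual.HD A ω c ⧸ LinearMap.range φ) :=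
    Module.notMem_support_iff'.2 fun m => by
      obtain ⟨y, rfl⟩ := Submodule.Quotient.mk_surjective _ m
      obtain ⟨s, r, hs, hsr⟩ := hx1 y
      exact ⟨s, hs, (Submodule.Quotient.mk_smul _ _ _).symm.trans
        ((Submodule.Quotient.mk_eq_zero _).2 ⟨r, hsr.symm⟩)⟩
  let Z : Set (PrimeSpectrum A) := (⋃ i ∈ (Finset.Icc a b).erase c, Module.support A (Dual.HD A ω i)) ∪
    (Module.support A (LinearMap.ker φ) ∪ Module.support A (Dual.HD A ω c ⧸ LinearMap.range φ))
  have hZ : IsClosed Z := by
    refine ((Finset.finite_toSet _).isClosed_biUnion fun i _ => ?_).union (IsClosed.union ?_ ?_)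
    · haveI := hfin i
      exact Module.isClosed_support
    all_goals exact Module.isClosed_support
  let V : (Spec (CommRingCat.of A)).Opens := ⟨Zᶜ, hZ.isOpen_compl⟩
  have hpV : (p : ↥(Spec (CommRingCat.of A))) ∈ V := by
    rintro (h | h | h)
    · obtain ⟨i, hi, hpi⟩ := Set.mem_iUnion₂.1 h
      exact hc i (Finset.ne_of_mem_erase hi) hpi
    · exact hpk h
    · exact hpc h
  have hsupp : ∀ i, i ≠ c → ∀ q ∈ V, (q : PrimeSpectrum A) ∉ Module.support A (Dual.HD A ω i) := by
    intro i hi q hq h
    by_cases hr : i ∈ Finset.Icc a b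
    · exact hq (Or.inl (Set.mem_iUnion₂.2 ⟨i, Finset.mem_erase.2 ⟨hi, hr⟩, h⟩))
    · haveI := hab i (by rw [Finset.mem_Icc] at hr; lia)
      rw [Module.support_eq_empty] at h
      exact h
  let R := CommRingCat.of A
  have eH : ∀ i, DCoh.HD ((RD V.ι).obj ((DCoh.tildeD R).obj ω)) i ≅
      ((tilde.functor R).obj (ModuleCat.of A (Dual.HD A ω i))).restrict V.ι := fun i =>
    Perfect.Coherent.homologyIso V.ι _ i ≪≫ (Scheme.Modules.restrictFunctor V.ι).mapIso
      (Perfect.TildeD.HIso (R := R) ω i)
  refine ⟨V, -c, hpV, nonempty_iso_shift _ c (fun i hi => ?_) ?_⟩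
  · refine IsZero.of_iso (Modules.Support.support_eq_empty_iff.1 ?_) (eH i)
    rw [Modules.Support.support_restrict]
    exact Set.eq_empty_iff_forall_notMem.2 fun z hz => hsupp i hi _ z.2 ((mem_support_tilde R _ _).1 hz)
  · haveI := isIso_restrict_tilde R (ModuleCat.ofHom φ : ModuleCat.of A A ⟶ ModuleCat.of A (Dual.HD A ω c)) V
      (fun q hq h => hq (Or.inr (Or.inl h))) (fun q hq h => hq (Or.inr (Or.inr h)))
    exact ⟨eH c ≪≫ (asIso ((Scheme.Modules.restrictFunctor V.ι).map ((tilde.functor R).map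
      (ModuleCat.ofHom φ : ModuleCat.of A A ⟶ ModuleCat.of A (Dual.HD A ω c))))).symm ≪≫
      (Scheme.Modules.restrictFunctor V.ι).mapIso (tildeSelf (R := R)) ≪≫
      Scheme.Modules.restrictUnitIso V.ι⟩

end Sheaf

end Groth.Agent.Lib.DualSch.Trivial
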