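import Groth.Agent.Lib.DualSch.Affine
import Groth.Agent.Lib.Perfect.Regular
import Groth.Agent.Lib.DerivedOX.TildeEquiv
import Groth.Agent.Lib.DMod.InvertibleLocal
import Groth.Agent.Lib.DMod.GorLocus
import Groth.Agent.Lib.DMod.DimDegree
import Groth.Agent.Lib.Goren.Global
import Groth.Prelude.Def_Dual3

/-!
# Dualizing complexes of Gorenstein schemes
-/

set_option autoImplicit false
set_option linter.style.haveILetI false

universe u

open CategoryTheory CategoryTheory.Limits AlgebraicGeometry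

attribute [local instance] HasDerivedCategory.standard

namespace Groth.Agent.Lib.DualSch.Invertible

open Groth.Agent.Lib Perfect.Basic Perfect.Triangle

variable {X U V : Scheme.{u}}

/-- Restriction of a shifted structure sheaf. -/
theorem nonempty_RD_shift (j : U ⟶ X) [IsOpenImmersion j] (n : ℤ) :
    Nonempty ((RD j).obj ((DCoh.inD X (Coh.structureModule X))⟦n⟧) ≅
      (DCoh.inD U (Coh.structureModule U))⟦n⟧) :=
  ⟨((RD j).commShiftIso n).app _ ≪≫ (shiftFunctor _ n).mapIso (Perfect.Regular.RDinD j _ ≪≫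
    (DerivedCategory.singleFunctor U.Modules 0).mapIso (Scheme.Modules.restrictUnitIso j))⟩

/-- The trivialisations of an invertible object restrict. -/
theorem nonempty_RD_comp (k : V ⟶ U) (j : U ⟶ X) [IsOpenImmersion k] [IsOpenImmersion j]
    {K : DCoh.D X} {n : ℤ} (e : (RD j).obj K ≅ (DCoh.inD U (Coh.structureModule U))⟦n⟧) :
    Nonempty ((RD (k ≫ j)).obj K ≅ (DCoh.inD V (Coh.structureModule V))⟦n⟧) := by
  obtain ⟨e'⟩ := nonempty_RD_shift k n
  exact ⟨RDComp k j K ≪≫ (RD k).mapIso e ≪≫ e'⟩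

/-- A trivialisation on an open immersion gives one on its range. -/
theorem exists_opens (j : U ⟶ X) [IsOpenImmersion j] {K : DCoh.D X} {n : ℤ}
    (e : (RD j).obj K ≅ (DCoh.inD U (Coh.structureModule U))⟦n⟧) :
    Nonempty ((RD j.opensRange.ι).obj K ≅
      (DCoh.inD (j.opensRange : Scheme.{u}) (Coh.structureModule (j.opensRange : Scheme.{u})))⟦n⟧) := by
  obtain ⟨e'⟩ := nonempty_RD_comp j.isoOpensRange.inv j e
  exact ⟨RDCongr (Scheme.Hom.isoOpensRange_inv_comp j).symm K ≪≫ e'⟩

variable {A : Type u} [CommRing A]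

/-- Derived tilde of a shifted module. -/
noncomputable def tildeShiftIso (R : CommRingCat.{u}) [PreservesFiniteLimits (tilde.functor R)]
    (M : ModuleCat.{u} R) (n : ℤ) :
    (DCoh.tildeD R).obj (((DerivedCategory.singleFunctor (ModuleCat.{u} R) 0).obj M)⟦n⟧) ≅
      ((DerivedCategory.singleFunctor (Spec (CommRingCat.of R)).Modules 0).obj
        ((tilde.functor R).obj M))⟦n⟧ :=
  ((tilde.functor R).mapDerivedCategory.commShiftIso n).app _ ≪≫ (shiftFunctor _ n).mapIso
    (((tilde.functor R).mapDerivedCategorySingleFunctor 0).app M)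

/-- `A~` is the structure sheaf. -/
theorem nonempty_tildeD_self [PreservesFiniteLimits (tilde.functor (CommRingCat.of A))] (n : ℤ) :
    Nonempty ((DCoh.tildeD (CommRingCat.of A)).obj ((Dual.inD A A)⟦n⟧) ≅
      (DCoh.inD (Spec (CommRingCat.of A))
        (Coh.structureModule (Spec (CommRingCat.of A))))⟦n⟧) :=
  ⟨tildeShiftIso (CommRingCat.of A) (ModuleCat.of A A) n ≪≫ (shiftFunctor _ n).mapIso
    ((DerivedCategory.singleFunctor _ 0).mapIso (tildeSelf (R := CommRingCat.of A)))⟩

/-- If a shift of `A` is dualizing, every localization is Gorenstein. -/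
theorem gorenstein_of_dualizing_self {ω : Dual.D A} (hω : Dual.IsDualizing A ω) {n : ℤ}
    (e : ω ≅ (Dual.inD A A)⟦n⟧) (p : PrimeSpectrum A) :
    LocCoh.IsGorensteinLocalRing (Localization.AtPrime p.asIdeal) := by
  haveI := hω.isNoetherianRing
  have hc : ∀ i, Nonempty (Dual.HD A ω i ≃ₗ[A] Dual.HD A (Dual.inD A A) (n + i)) := fun i =>
    ⟨(((DerivedCategory.homologyFunctor (ModuleCat.{u} A) i).mapIso e).toLinearEquiv).trans
      (DMod.Basic.HDShift _ n i (n + i) rfl)⟩
  rw [DMod.GorLocus.mem_iff hω p]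
  refine ⟨-n, fun i hi hp => ?_, ?_⟩
  · obtain ⟨l⟩ := hc i
    rw [l.support_eq] at hp
    haveI := DMod.Basic.subsingleton_HD_inD (A := A) A (i := n + i) (by omega)
    rw [Module.support_eq_empty] at hp
    exact hp
  · obtain ⟨l⟩ := hc (-n)
    let m : Dual.HD A (Dual.inD A A) (n + -n) ≃ₗ[A] A := by
      rw [add_neg_cancel]; exact DMod.Basic.HDinD A
    let g := l.trans m
    haveI : Nontrivial A := ⟨⟨1, 0, fun h => p.isPrime.ne_top (Ideal.eq_top_of_isUnit_mem _
      (by rw [h]; exact zero_mem _) isUnit_one)⟩⟩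
    haveI : Module.Free A (Dual.HD A ω (-n)) := Module.Free.of_equiv g.symm
    haveI : Module.Finite A (Dual.HD A ω (-n)) := Module.Finite.equiv g.symm
    refine ⟨Module.freeLocus_eq_univ (R := A) (M := Dual.HD A ω (-n)) ▸ trivial, ?_⟩
    rw [Module.rankAtStalk_eq_finrank_of_free, Pi.natCast_apply, g.finrank_eq, Module.finrank_self,
      Nat.cast_one]

/-- A Gorenstein ring with a dualizing complex is dualizing for itself. -/
theorem isDualizing_self_of_gorenstein {ω : Dual.D A} (hω : Dual.IsDualizing A ω)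
    (hG : ∀ p : PrimeSpectrum A, LocCoh.IsGorensteinLocalRing (Localization.AtPrime p.asIdeal)) :
    Dual.IsDualizing A (Dual.inD A A) := by
  haveI := hω.isNoetherianRing
  have hg : LocCoh.IsGorensteinRing A :=
    { isGorensteinLocalRing_localization := fun p _ => hG ⟨p, ‹_›⟩ }
  obtain ⟨n, hn⟩ := Goren.Global.hasInjectiveDimensionLT_iff_gorenstein.mpr
    ⟨hg, DMod.DimDegree.ringKrullDim_lt_top hω⟩
  exact DMod.Gorenstein.isDualizing_self hn

end Groth.Agent.Lib.DualSch.Invertible
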