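import Groth.Agent.Lib.DualSch.Pull
import Groth.Agent.Lib.Goren.LCIFibre

/-!
# Flat lci morphisms are Gorenstein
-/

set_option autoImplicit false
set_option linter.style.haveILetI false

universe u

open CategoryTheory CategoryTheory.Limits AlgebraicGeometry
open Groth.Agent.H46.UnivOpenFinite

namespace Groth.Agent.Lib.DualSch.LCI

open Groth.Agent.Lib

variable {X Y : Scheme.{u}} (f : X ⟶ Y)

/-- A flat lci morphism is locally of finite type. -/
theorem locallyOfFiniteType_of_lci (hf : Dual3.IsLCIMor f) : LocallyOfFiniteType f := by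
  rw [HasRingHomProperty.iff_exists_appLE (P := @LocallyOfFiniteType)
    (RingHom.finiteType_stableUnderComposition.stableUnderCompositionWithLocalizationAway
      RingHom.finiteType_holdsForLocalizationAway).left]
  intro x
  obtain ⟨U, V, e, hx, h⟩ := hf x
  exact ⟨V, U, hx, e, h.1⟩

/-- A flat lci morphism to a locally Noetherian scheme is Gorenstein. -/
theorem isGorensteinMor_of_lci [Flat f] [IsLocallyNoetherian Y] (hf : Dual3.IsLCIMor f) :
    Dual3.IsGorensteinMor f := fun x => by
  haveI := locallyOfFiniteType_of_lci f hf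
  obtain ⟨U, V, e, hx, hl⟩ := hf x
  let A : Type u := Γ(Y, V.1)
  let B : Type u := Γ(X, U.1)
  letI : Algebra A B := (f.appLE V.1 U.1 e).hom.toAlgebra
  haveI : Module.Flat A B := f.flat_appLE V.2 U.2 e
  haveI : Algebra.FiniteType A B := hl.1
  let i : Spec (CommRingCat.of A) ⟶ Y := V.2.fromSpec
  let k : Spec (CommRingCat.of B) ⟶ X := U.2.fromSpec
  haveI : IsOpenImmersion i := V.2.isOpenImmersion_fromSpec
  haveI : IsOpenImmersion k := U.2.isOpenImmersion_fromSpec
  have hc : k ≫ f = sm A B ≫ i := (IsAffineOpen.SpecMap_appLE_fromSpec f V.2 U.2 e).symm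
  obtain ⟨z, rfl⟩ : x ∈ Set.range k := U.2.range_fromSpec.symm ▸ hx
  haveI : IsNoetherianRing A := IsLocallyNoetherian.component_noetherian V
  haveI : IsNoetherianRing B := Algebra.FiniteType.isNoetherianRing A B
  haveI : LocallyOfFiniteType (sm A B) := lft_sm A B
  rw [← GorenMor.Local.openImmersion_comp_iff k f z, hc, GorenMor.Local.comp_openImmersion_iff]
  refine (GorenMor.Local.sm_iff A B z).2 ?_
  let q : PrimeSpectrum B := z
  have h := DMod.GorFibreGlobal.gorenstein_quotient_of_fibre q
    (Goren.LCIFibre.gorenstein_fibre hl (q.asIdeal.comap (algebraMap A B)))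
  have hpt : (DMod.GorFibre.pt A (Localization.AtPrime q.asIdeal)).asIdeal =
      q.asIdeal.comap (algebraMap A B) := by
    show (IsLocalRing.maximalIdeal (Localization.AtPrime q.asIdeal)).comap (algebraMap A _) = _
    rw [IsScalarTower.algebraMap_eq A B (Localization.AtPrime q.asIdeal), ← Ideal.comap_comap]
    exact congrArg (Ideal.comap (algebraMap A B)) Localization.AtPrime.under_maximalIdeal
  rw [hpt] at h
  exact h

end Groth.Agent.Lib.DualSch.LCI
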