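import Groth.Agent.Lib.DualSch.Sch
import Groth.Agent.Lib.QCoh.Pullback
import Groth.Agent.Lib.DR.FlatBC
import Groth.Agent.Lib.DR.BaseChangeU
import Groth.Agent.Lib.DR.ExactPush
import Groth.Agent.Lib.Perfect.QCohD
import Groth.Agent.Lib.DerivedOX.QCohLocal
import Groth.Agent.S11177
import Groth.Agent.S1787

/-!
# Dualizing complexes on schemes are affine-local
-/

set_option autoImplicit false
set_option linter.style.haveILetI false

universe u

open CategoryTheory CategoryTheory.Limits AlgebraicGeometry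

attribute [local instance] HasDerivedCategory.standard

namespace Groth.Agent.Lib.DualSch.Local

open Groth.Agent.Lib Perfect.Basic Perfect.Triangle

/-- Restriction of `M~` along an affine open immersion. -/
noncomputable def restrictTilde {A B : CommRingCat.{u}} (b : A ⟶ B) [IsOpenImmersion (Spec.map b)]
    [PreservesFiniteLimits (ModuleCat.extendScalars.{u, u, u} b.hom)]
    [PreservesFiniteColimits (ModuleCat.extendScalars.{u, u, u} b.hom)]
    [PreservesFiniteLimits (tilde.functor A)] [PreservesFiniteLimits (tilde.functor B)] (M : Dual.D A) :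
    (RD (Spec.map b)).obj ((DCoh.tildeD A).obj M) ≅
      (DCoh.tildeD B).obj ((ModuleCat.extendScalars.{u, u, u} b.hom).mapDerivedCategory.obj M) :=
  let i := DerivedCategory.Q.objObjPreimageIso M
  let C := DerivedCategory.Q.objPreimage M
  let ν : tilde.functor A ⋙ Scheme.Modules.restrictFunctor (Spec.map b) ≅
      ModuleCat.extendScalars.{u, u, u} b.hom ⋙ tilde.functor B :=
    Functor.isoWhiskerLeft (tilde.functor A) (Scheme.Modules.restrictFunctorIsoPullback (Spec.map b)) ≪≫
      QCoh.Pullback.pullbackTildeIso b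
  (RD (Spec.map b)).mapIso ((DCoh.tildeD A).mapIso i.symm ≪≫ DR.ExactPush.mapQ (tilde.functor A) C) ≪≫
    RDQ (Spec.map b) _ ≪≫
    DerivedCategory.Q.mapIso ((NatIso.mapHomologicalComplex ν _).app C) ≪≫
    (DR.ExactPush.mapQ (tilde.functor B)
      (((ModuleCat.extendScalars.{u, u, u} b.hom).mapHomologicalComplex (ComplexShape.up ℤ)).obj C)).symm ≪≫
    (DCoh.tildeD B).mapIso ((DR.ExactPush.mapQ (ModuleCat.extendScalars.{u, u, u} b.hom) C).symm ≪≫
      (ModuleCat.extendScalars.{u, u, u} b.hom).mapDerivedCategory.mapIso i)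

variable [∀ (R : CommRingCat.{u}), PreservesFiniteLimits (tilde.functor R)]

/-- An affine open of an affine scheme inherits a dualizing complex. -/
theorem exists_dualizing_restrict {A C : Type u} [CommRing A] [CommRing C]
    (t : Spec (CommRingCat.of C) ⟶ Spec (CommRingCat.of A)) [IsOpenImmersion t] {ω : Dual.D A}
    (hω : Dual.IsDualizing A ω) :
    ∃ ω' : Dual.D C, Dual.IsDualizing C ω' ∧ Nonempty
      ((RD t).obj ((DCoh.tildeD (CommRingCat.of A)).obj ω) ≅
        (DCoh.tildeD (CommRingCat.of C)).obj ω') := by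
  obtain ⟨ψ, rfl⟩ := Spec.map_surjective t
  haveI := hω.isNoetherianRing
  have hsm : ψ.hom.Smooth := (HasRingHomProperty.Spec_iff (P := @Smooth)).1 inferInstance
  letI : Algebra A C := ψ.hom.toAlgebra
  haveI : Algebra.Smooth A C := hsm
  haveI : Module.Flat A C := (Flat.SpecMap_iff (f := ψ)).1 inferInstance
  haveI : DRing.HasLBaseChange (algebraMap A C) := DR.BaseChangeU.hasLBaseChange (algebraMap A C)
  haveI : PreservesFiniteLimits (ModuleCat.extendScalars.{u, u, u} ψ.hom) :=
    DR.FlatBC.preservesFiniteLimits (A := A) (B := C)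
  haveI : PreservesFiniteColimits (ModuleCat.extendScalars.{u, u, u} ψ.hom) :=
    DR.FlatBC.preservesFiniteColimits (A := A) (B := C)
  exact ⟨_, DMod.LBC.isDualizing_of_iso ((DMod.FlatHom.isoLBaseChange A C).app ω)
    (Groth.Agent.S11177.result A C ω hω), ⟨restrictTilde ψ ω⟩⟩

variable {X : Scheme.{u}} [∀ (U : Scheme.{u}) (j : U ⟶ X) [IsOpenImmersion j],
    PreservesFiniteLimits (Scheme.Modules.restrictFunctor j)]

/-- Being dualizing can be checked on an affine cover. -/
theorem isDualizingSch_of_cover [IsLocallyNoetherian X] (K : DCoh.D X)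
    (h : ∀ x : X, ∃ (A : Type u) (_ : CommRing A) (j : Spec (CommRingCat.of A) ⟶ X)
      (_ : IsOpenImmersion j) (ω : Dual.D A), x ∈ Set.range j ∧ Dual.IsDualizing A ω ∧
        Nonempty ((DCoh.restrictD j).obj K ≅ (DCoh.tildeD (CommRingCat.of A)).obj ω)) :
    Dual2.IsDualizingSch X K := by
  intro B _ j _
  have hq : DCoh.IsQCohD K := fun i => Perfect.QCohD.isQCoh_of_cover fun x => by
    obtain ⟨A, _, k, _, ω, hx, -, ⟨e⟩⟩ := h x
    obtain ⟨p, hp⟩ := hx
    obtain ⟨φ⟩ := Affine.nonempty_HD_iso k e i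
    haveI : Coh.IsQCoh ((tilde.functor (CommRingCat.of A)).obj (ModuleCat.of A (Dual.HD A ω i))) :=
      inferInstanceAs (tilde (R := CommRingCat.of A) (ModuleCat.of A (Dual.HD A ω i))).IsQuasicoherent
    exact ⟨_, k, inferInstance, p, hp, CohBasics.Closure.isQCoh_of_iso φ.symm⟩
  obtain ⟨ω, ⟨eω⟩⟩ := DerivedOX.TildeEquiv.exists_preimage (CommRingCat.of B) _
    (DerivedOX.QCohLocal.isQCohD_restrictD j hq)
  refine ⟨ω, ?_, ⟨eω.symm⟩⟩
  -- basic opens of `Spec B` inside the charts
  have loc : ∀ p : PrimeSpectrum B, ∃ f : B, p ∈ PrimeSpectrum.basicOpen f ∧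
      ∃ ω' : Dual.D (Localization.Away f), Dual.IsDualizing (Localization.Away f) ω' ∧
        Nonempty ((RD (Spec.map (CommRingCat.ofHom (algebraMap B (Localization.Away f))))).obj
          ((DCoh.tildeD (CommRingCat.of B)).obj ω) ≅
            (DCoh.tildeD (CommRingCat.of (Localization.Away f))).obj ω') := fun p => by
    obtain ⟨A, _, k, _, τ, hx, hτ, ⟨e⟩⟩ := h (j p)
    obtain ⟨-, ⟨f, rfl⟩, hpf, hfsub⟩ := PrimeSpectrum.isTopologicalBasis_basic_opens.exists_subset_of_mem_open
      (show p ∈ j ⁻¹' Set.range k from hx) (k.isOpenEmbedding.isOpen_range.preimage j.continuous)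
    let l : Spec (CommRingCat.of (Localization.Away f)) ⟶ Spec (CommRingCat.of B) :=
      Spec.map (CommRingCat.ofHom (algebraMap B (Localization.Away f)))
    haveI : IsOpenImmersion l := IsOpenImmersion.of_isLocalization (R := B) (S := Localization.Away f) f
    have hr : Set.range (l ≫ j) ⊆ Set.range k := by
      rintro _ ⟨z, rfl⟩
      exact hfsub ((PrimeSpectrum.localization_away_comap_range (Localization.Away f) f).le
        ⟨z, rfl⟩)
    let t := IsOpenImmersion.lift k (l ≫ j) hr
    have ht : t ≫ k = l ≫ j := IsOpenImmersion.lift_fac _ _ _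
    haveI : IsOpenImmersion (t ≫ k) := ht ▸ inferInstance
    haveI : IsOpenImmersion t := IsOpenImmersion.of_comp t k
    obtain ⟨ω', hω', ⟨eω'⟩⟩ := exists_dualizing_restrict t hτ
    exact ⟨f, hpf, ω', hω', ⟨(RD l).mapIso eω ≪≫ (RDComp l j K).symm ≪≫ RDCongr ht.symm K ≪≫
      RDComp t k K ≪≫ (RD t).mapIso e ≪≫ eω'⟩⟩
  haveI : IsNoetherianRing B :=
    haveI := isLocallyNoetherian_of_isOpenImmersion j
    (isLocallyNoetherian_Spec (R := CommRingCat.of B)).1 ‹_›
  choose f hpf ω' hω' hiso using loc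
  obtain ⟨s, hs⟩ := (isCompact_univ (X := PrimeSpectrum B)).elim_finite_subcover
    (fun p => (PrimeSpectrum.basicOpen (f p) : Set (PrimeSpectrum B)))
    (fun p => (PrimeSpectrum.basicOpen (f p)).isOpen) fun p _ => Set.mem_iUnion.2 ⟨p, hpf p⟩
  let g : Fin s.card → B := fun a => f (s.equivFin.symm a)
  have hg : Ideal.span (Set.range g) = ⊤ := by
    rw [← PrimeSpectrum.iSup_basicOpen_eq_top_iff, eq_top_iff]
    intro q _
    obtain ⟨p, hp, hq⟩ := Set.mem_iUnion₂.1 (hs (Set.mem_univ q))
    exact TopologicalSpace.Opens.mem_iSup.2 ⟨s.equivFin ⟨p, hp⟩, by simpa [g] using hq⟩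
  refine Groth.Agent.S1787.result B _ g hg ω fun a => ?_
  let p := (s.equivFin.symm a : PrimeSpectrum B)
  haveI := DR.BaseChangeU.hasLBaseChange (algebraMap B (Localization.Away (f p)))
  haveI : Module.Flat B (Localization.Away (f p)) :=
    IsLocalization.flat _ (Submonoid.powers (f p))
  haveI : IsOpenImmersion (Spec.map (CommRingCat.ofHom (algebraMap B (Localization.Away (f p))))) :=
    IsOpenImmersion.of_isLocalization (R := B) (S := Localization.Away (f p)) (f p)
  haveI : PreservesFiniteLimits (ModuleCat.extendScalars.{u, u, u}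
      (CommRingCat.ofHom (algebraMap B (Localization.Away (f p)))).hom) :=
    DR.FlatBC.preservesFiniteLimits (A := B) (B := Localization.Away (f p))
  haveI : PreservesFiniteColimits (ModuleCat.extendScalars.{u, u, u}
      (CommRingCat.ofHom (algebraMap B (Localization.Away (f p)))).hom) :=
    DR.FlatBC.preservesFiniteColimits (A := B) (B := Localization.Away (f p))
  haveI := DerivedOX.TildeEquiv.full (CommRingCat.of (Localization.Away (f p)))
  haveI := DerivedOX.TildeEquiv.faithful (CommRingCat.of (Localization.Away (f p)))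
  obtain ⟨e'⟩ := hiso p
  exact ⟨inferInstance, DMod.LBC.isDualizing_of_iso
    (((DCoh.tildeD (CommRingCat.of (Localization.Away (f p)))).preimageIso
      ((restrictTilde (CommRingCat.ofHom (algebraMap B (Localization.Away (f p)))) ω).symm ≪≫ e')).symm ≪≫
      ((DMod.FlatHom.isoLBaseChange B (Localization.Away (f p))).app ω).symm) (hω' p)⟩

end Groth.Agent.Lib.DualSch.Local
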