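import Groth.Agent.Lib.DualSch.Local
import Groth.Agent.Lib.DerivedOX.PullComp
import Groth.Agent.Lib.GorenMor.Local
import Groth.Agent.Lib.DMod.GorFibreGlobal
import Groth.Agent.Lib.DMod.GorFibreApply
import Groth.Prelude.Def_Dual3

/-!
# Dualizing complexes and pullback along flat Gorenstein morphisms
-/

set_option autoImplicit false
set_option linter.style.haveILetI false

universe u w

open CategoryTheory CategoryTheory.Limits AlgebraicGeometry TensorProduct
open Groth.Agent.H46.UnivOpenFinite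

attribute [local instance] HasDerivedCategory.standard

namespace Groth.Agent.Lib.DualSch.Pull

open Groth.Agent.Lib Perfect.Basic Perfect.Pullback Perfect.Triangle

/-- A flat family whose spectra cover detects zero modules. -/
theorem detects_of_cover' {R : Type u} [CommRing R] {ι : Type} (B : ι → Type u) [∀ i, CommRing (B i)]
    [∀ i, Algebra R (B i)] [∀ i, Module.Flat R (B i)]
    (hcov : ∀ p : PrimeSpectrum R, ∃ (i : ι) (q : PrimeSpectrum (B i)),
      PrimeSpectrum.comap (algebraMap R (B i)) q = p) :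
    ∀ (M : Type w) [AddCommGroup M] [Module R M],
      (∀ i, Subsingleton (B i ⊗[R] M)) → Subsingleton M := by
  intro M _ _ hM
  refine subsingleton_of_forall_eq 0 fun x => ?_
  by_contra hx
  let J : Ideal R := LinearMap.ker (LinearMap.toSpanSingleton R M x)
  have hJ : J ≠ ⊤ := fun h => hx (by simpa [J] using (show (1 : R) ∈ J from h ▸ Submodule.mem_top))
  obtain ⟨p, hp, hJp⟩ := J.exists_le_maximal hJ
  obtain ⟨i, q, hq⟩ := hcov ⟨p, hp.isPrime⟩
  have hJq : J ≤ LinearMap.ker (Algebra.linearMap R (B i ⧸ q.asIdeal)) := by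
    intro r hr
    rw [LinearMap.mem_ker, Algebra.linearMap_apply, IsScalarTower.algebraMap_apply R (B i),
      Ideal.Quotient.algebraMap_eq, Ideal.Quotient.eq_zero_iff_mem]
    exact (congrArg PrimeSpectrum.asIdeal hq).ge (hJp hr)
  let φ : (R ⧸ J) →ₗ[R] B i ⧸ q.asIdeal := Submodule.liftQ J _ hJq
  let ψ : B i ⊗[R] (R ⧸ J) →ₗ[R] B i ⧸ q.asIdeal :=
    TensorProduct.lift ((LinearMap.lsmul (B i) (B i ⧸ q.asIdeal)).restrictScalars₁₂ R R |>.compl₂ φ)
  have hinj : Function.Injective ((Submodule.liftQ J (LinearMap.toSpanSingleton R M x) le_rfl).lTensor (B i)) := by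
    refine Module.Flat.lTensor_preserves_injective_linearMap (M := B i) _ ?_
    rw [← LinearMap.ker_eq_bot]
    exact Submodule.ker_liftQ_eq_bot _ _ _ le_rfl
  haveI := hM i
  have h0 : (1 : B i) ⊗ₜ[R] (Submodule.Quotient.mk (1 : R) : R ⧸ J) = 0 :=
    hinj (Subsingleton.elim _ _)
  have h1 : (1 : B i ⧸ q.asIdeal) = 0 := by
    have h2 := congrArg ψ h0
    rw [map_zero] at h2
    rw [← h2]
    show (1 : B i ⧸ q.asIdeal) = (1 : B i) • algebraMap R (B i ⧸ q.asIdeal) 1
    rw [one_smul, map_one]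
  exact one_ne_zero h1

/-- Derived pullback of `M~` along a flat map of affine schemes. -/
theorem nonempty_Lpull_tilde {A B : CommRingCat.{u}} (b : A ⟶ B) [DCoh.HasLpull (Spec.map b)]
    [PreservesFiniteLimits (ModuleCat.extendScalars.{u, u, u} b.hom)]
    [PreservesFiniteColimits (ModuleCat.extendScalars.{u, u, u} b.hom)]
    [PreservesFiniteLimits (tilde.functor A)] [PreservesFiniteLimits (tilde.functor B)] (M : Dual.D A) :
    Nonempty ((DCoh.Lpull (Spec.map b)).obj ((DCoh.tildeD A).obj M) ≅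
      (DCoh.tildeD B).obj ((ModuleCat.extendScalars.{u, u, u} b.hom).mapDerivedCategory.obj M)) := by
  let E := DerivedCategory.Q.objPreimage M
  haveI := DR.KProjRes.quasiIso_aug A E
  let P := (DR.KProjRes.res A).obj E
  let i : DerivedCategory.Q.obj P ≅ M :=
    asIso (DerivedCategory.Q.map ((DR.KProjRes.aug A).app E)) ≪≫ DerivedCategory.Q.objObjPreimageIso M
  obtain ⟨eL⟩ := DerivedOX.QCohLocal.nonempty_Lpull_iso (Spec.map b)
    (DerivedOX.TildeStalk.isKFlat_tilde A (DR.KFlat.isKFlat_res E))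
  exact ⟨(DCoh.Lpull (Spec.map b)).mapIso ((DCoh.tildeD A).mapIso i.symm ≪≫
      DR.ExactPush.mapQ (tilde.functor A) P) ≪≫ eL ≪≫
    DerivedCategory.Q.mapIso ((NatIso.mapHomologicalComplex (QCoh.Pullback.pullbackTildeIso b) _).app P) ≪≫
    (DR.ExactPush.mapQ (tilde.functor B)
      (((ModuleCat.extendScalars.{u, u, u} b.hom).mapHomologicalComplex (ComplexShape.up ℤ)).obj P)).symm ≪≫
    (DCoh.tildeD B).mapIso ((DR.ExactPush.mapQ (ModuleCat.extendScalars.{u, u, u} b.hom) P).symm ≪≫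
      (ModuleCat.extendScalars.{u, u, u} b.hom).mapDerivedCategory.mapIso i)⟩

variable {X Y : Scheme.{u}} (f : X ⟶ Y) [DCoh.HasLpull f]
  [∀ (R : CommRingCat.{u}), PreservesFiniteLimits (tilde.functor R)]

/-- Derived pullback read on a flat chart. -/
theorem nonempty_chart_iso {A B : Type u} [CommRing A] [CommRing B] [Algebra A B] [Module.Flat A B]
    (i : Spec (CommRingCat.of A) ⟶ Y) [IsOpenImmersion i]
    (k : Spec (CommRingCat.of B) ⟶ X) [IsOpenImmersion k] (hc : k ≫ f = sm A B ≫ i)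
    {K : DCoh.D Y} {ω : Dual.D A} (e : (RD i).obj K ≅ (DCoh.tildeD (CommRingCat.of A)).obj ω) :
    Nonempty ((RD k).obj ((DCoh.Lpull f).obj K) ≅
      (DCoh.tildeD (CommRingCat.of B)).obj ((DMod.FlatHom.L A B).obj ω)) := by
  haveI := DerivedOX.LeftExists.hasLpull k
  haveI := DerivedOX.LeftExists.hasLpull i
  haveI := DerivedOX.LeftExists.hasLpull (sm A B)
  haveI := DerivedOX.LeftExists.hasLpull (k ≫ f)
  haveI := DerivedOX.LeftExists.hasLpull (sm A B ≫ i)
  haveI : PreservesFiniteLimits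
      (ModuleCat.extendScalars.{u, u, u} (CommRingCat.ofHom (algebraMap A B)).hom) :=
    DR.FlatBC.preservesFiniteLimits (A := A) (B := B)
  haveI : PreservesFiniteColimits
      (ModuleCat.extendScalars.{u, u, u} (CommRingCat.ofHom (algebraMap A B)).hom) :=
    DR.FlatBC.preservesFiniteColimits (A := A) (B := B)
  have congrIso : ∀ {a b : Spec (CommRingCat.of B) ⟶ Y} [DCoh.HasLpull a] [DCoh.HasLpull b],
      a = b → Nonempty (DCoh.Lpull a ≅ DCoh.Lpull b) := fun h => by
    subst h; exact ⟨Iso.refl _⟩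
  obtain ⟨ec⟩ := congrIso (a := k ≫ f) (b := sm A B ≫ i) hc
  obtain ⟨ek⟩ := DerivedOX.QCohLocal.nonempty_restrictD_iso k ((DCoh.Lpull f).obj K)
  obtain ⟨ei⟩ := DerivedOX.QCohLocal.nonempty_restrictD_iso i K
  obtain ⟨et⟩ := nonempty_Lpull_tilde (CommRingCat.ofHom (algebraMap A B)) ω
  exact ⟨ek ≪≫ (DerivedOX.PullComp.lpullCompIso k f).app K ≪≫ ec.app K ≪≫
    ((DerivedOX.PullComp.lpullCompIso (sm A B) i).app K).symm ≪≫
    (DCoh.Lpull (sm A B)).mapIso (ei.symm ≪≫ e) ≪≫ et⟩

omit [DCoh.HasLpull f] [∀ (R : CommRingCat.{u}), PreservesFiniteLimits (tilde.functor R)] in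
/-- Flat finite type charts through every point of the source. -/
theorem exists_chart [Flat f] [LocallyOfFiniteType f] {A : Type u} [CommRing A]
    (i : Spec (CommRingCat.of A) ⟶ Y) [IsOpenImmersion i] (x : X) (hx : f x ∈ Set.range i) :
    ∃ (B : Type u) (_ : CommRing B) (_ : Algebra A B) (_ : Module.Flat A B) (_ : Algebra.FiniteType A B)
      (k : Spec (CommRingCat.of B) ⟶ X) (_ : IsOpenImmersion k),
      x ∈ Set.range k ∧ k ≫ f = sm A B ≫ i := by
  obtain ⟨U, hU, hxU, hUr⟩ := exists_isAffineOpen_mem_and_subset (X := X) (x := x)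
    (U := ⟨f ⁻¹' Set.range i, i.isOpenEmbedding.isOpen_range.preimage f.continuous⟩) hx
  let B : Type u := Γ(X, U)
  let k : Spec (CommRingCat.of B) ⟶ X := hU.fromSpec
  haveI : IsOpenImmersion k := hU.isOpenImmersion_fromSpec
  have hr : Set.range (k ≫ f) ⊆ Set.range i := by
    rintro _ ⟨z, rfl⟩
    exact hUr (hU.range_fromSpec.le ⟨z, rfl⟩)
  obtain ⟨φ, hφ⟩ := Spec.map_surjective (IsOpenImmersion.lift i (k ≫ f) hr)
  have hc : Spec.map φ ≫ i = k ≫ f := by rw [hφ, IsOpenImmersion.lift_fac]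
  haveI : Flat (Spec.map φ) := by
    haveI : Flat (Spec.map φ ≫ i) := hc ▸ inferInstance
    exact MorphismProperty.of_isPullback (P := @Flat)
      ((IsPullback.id_horiz (Spec.map φ)).paste_vert (IsKernelPair.id_of_mono i)) ‹_›
  haveI : LocallyOfFiniteType (Spec.map φ) := by
    haveI : LocallyOfFiniteType (Spec.map φ ≫ i) := hc ▸ inferInstance
    exact locallyOfFiniteType_of_comp (Spec.map φ) i
  letI : Algebra A B := φ.hom.toAlgebra
  have hft : Algebra.FiniteType A B :=
    (HasRingHomProperty.Spec_iff (P := @LocallyOfFiniteType) (φ := φ)).1 ‹_›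
  have hfl : Module.Flat A B := (Flat.SpecMap_iff (f := φ)).1 ‹_›
  exact ⟨B, inferInstance, φ.hom.toAlgebra, hfl, hft, k, inferInstance,
    hU.range_fromSpec.symm ▸ hxU, hc.symm⟩

omit [DCoh.HasLpull f] [∀ (R : CommRingCat.{u}), PreservesFiniteLimits (tilde.functor R)] in
/-- Gorenstein morphisms have Gorenstein fibre rings on charts. -/
theorem gorenstein_fibres [LocallyOfFiniteType f] (hf : Dual3.IsGorensteinMor f)
    {A B : Type u} [CommRing A] [CommRing B] [Algebra A B] [Module.Flat A B] [Algebra.FiniteType A B]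
    (i : Spec (CommRingCat.of A) ⟶ Y) [IsOpenImmersion i]
    (k : Spec (CommRingCat.of B) ⟶ X) [IsOpenImmersion k] (hc : k ≫ f = sm A B ≫ i)
    (p : Ideal A) [p.IsPrime] : LocCoh.IsGorensteinRing (p.Fiber B) := by
  haveI : LocallyOfFiniteType (sm A B) := lft_sm A B
  haveI : IsNoetherianRing (p.Fiber B) := Algebra.FiniteType.isNoetherianRing p.ResidueField _
  refine { isGorensteinLocalRing_localization := fun qF _ => ?_ }
  let q := qF.comap (Algebra.TensorProduct.includeRight : B →ₐ[A] p.Fiber B)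
  have hqp : q.comap (algebraMap A B) = p := by
    show (qF.comap _).comap (algebraMap A B) = p
    rw [← Ideal.comap_coe (Algebra.TensorProduct.includeRight : B →ₐ[A] p.Fiber B),
      Ideal.comap_comap, AlgHom.comp_algebraMap]
    exact (Ideal.over_def qF p).symm
  let z : ↥(Spec (CommRingCat.of B)) := (⟨q, inferInstance⟩ : PrimeSpectrum B)
  have h := hf (k z)
  rw [← GorenMor.Local.openImmersion_comp_iff k f z, hc, GorenMor.Local.comp_openImmersion_iff,
    GorenMor.Local.sm_iff] at h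
  refine @Goren.Flat.isGorensteinLocalRing_ringEquiv _ _ _ _
    ((Ideal.quotEquivOfEq ?_).trans (Ideal.Fiber.algEquivAux₂ p qF).toRingEquiv.symm) h
  rw [Ideal.map_map, ← IsScalarTower.algebraMap_eq, hqp]

variable [∀ (U : Scheme.{u}) (j : U ⟶ X) [IsOpenImmersion j],
    PreservesFiniteLimits (Scheme.Modules.restrictFunctor j)]
  [∀ (U : Scheme.{u}) (j : U ⟶ Y) [IsOpenImmersion j],
    PreservesFiniteLimits (Scheme.Modules.restrictFunctor j)]

/-- Pullback along a flat Gorenstein morphism locally of finite type keeps dualizing complexes. -/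
theorem isDualizingSch_Lpull [IsLocallyNoetherian X] [Flat f] [LocallyOfFiniteType f]
    (hf : Dual3.IsGorensteinMor f) {K : DCoh.D Y} (hK : Dual2.IsDualizingSch Y K) :
    Dual2.IsDualizingSch X ((DCoh.Lpull f).obj K) := by
  refine Local.isDualizingSch_of_cover _ fun x => ?_
  obtain ⟨A, _, i, _, p, hp, -⟩ := Sch.exists_chart (f x) ⊤ trivial
  obtain ⟨B, _, _, _, _, k, _, hx, hc⟩ := exists_chart f i x ⟨p, hp⟩
  obtain ⟨ω, hω, ⟨e⟩⟩ := hK A i
  haveI := hω.isNoetherianRing
  haveI : IsNoetherianRing B := Algebra.FiniteType.isNoetherianRing A B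
  exact ⟨B, inferInstance, k, inferInstance, _, hx,
    DMod.GorFibreGlobal.isDualizing_L_of_fibres
      (DMod.GorFibreApply.ringKrullDim_lt_top_of_finiteType hω)
      (fun q => gorenstein_fibres f hf i k hc _) hω,
    nonempty_chart_iso f i k hc e⟩

/-- Being dualizing descends along a surjective flat morphism locally of finite type. -/
theorem isDualizingSch_of_Lpull [IsLocallyNoetherian Y] [Flat f] [LocallyOfFiniteType f]
    [Surjective f] {K : DCoh.D Y} (hq : DCoh.IsQCohD K)
    (h : Dual2.IsDualizingSch X ((DCoh.Lpull f).obj K)) : Dual2.IsDualizingSch Y K := by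
  intro A _ i _
  obtain ⟨ω, ⟨eω⟩⟩ := DerivedOX.TildeEquiv.exists_preimage (CommRingCat.of A) _
    (DerivedOX.QCohLocal.isQCohD_restrictD i hq)
  refine ⟨ω, ?_, ⟨eω.symm⟩⟩
  haveI : IsNoetherianRing A :=
    haveI := isLocallyNoetherian_of_isOpenImmersion i
    (isLocallyNoetherian_Spec (R := CommRingCat.of A)).1 ‹_›
  have loc : ∀ p : PrimeSpectrum A, ∃ (B : Type u) (_ : CommRing B) (_ : Algebra A B)
      (_ : Module.Flat A B) (_ : Algebra.FiniteType A B) (k : Spec (CommRingCat.of B) ⟶ X)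
      (_ : IsOpenImmersion k), k ≫ f = sm A B ≫ i ∧ p ∈ Set.range (sm A B) := fun p => by
    obtain ⟨x, hx⟩ := f.surjective (i p)
    obtain ⟨B, _, _, _, _, k, _, hxk, hc⟩ := exists_chart f i x (hx ▸ ⟨p, rfl⟩)
    obtain ⟨z, rfl⟩ := hxk
    refine ⟨B, inferInstance, inferInstance, inferInstance, inferInstance, k, inferInstance, hc,
      z, i.isOpenEmbedding.injective ?_⟩
    show (sm A B ≫ i) z = i p
    rw [← hc]
    exact hx
  choose B hB₁ hB₂ hB₃ hB₄ k hk hc hp using loc
  have hopen : ∀ p, IsOpen (Set.range (sm A (B p))) := fun p => by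
    haveI : Flat (sm A (B p)) :=
      (HasRingHomProperty.Spec_iff (P := @Flat)).2 (RingHom.flat_algebraMap_iff.2 (hB₃ p))
    haveI : LocallyOfFiniteType (sm A (B p)) := lft_sm A (B p)
    exact (sm A (B p)).isOpenMap.isOpen_range
  obtain ⟨s, hs⟩ := (isCompact_univ (X := PrimeSpectrum A)).elim_finite_subcover _ hopen
    fun p _ => Set.mem_iUnion.2 ⟨p, hp p⟩
  let c : Fin s.card → PrimeSpectrum A := fun a => s.equivFin.symm a
  haveI : ∀ a, Module.Flat A (B (c a)) := fun a => hB₃ _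
  haveI : ∀ a, DRing.HasLBaseChange (algebraMap A (B (c a))) := fun a =>
    DR.BaseChangeU.hasLBaseChange _
  have hcov : ∀ p : PrimeSpectrum A, ∃ (a : Fin s.card) (q : PrimeSpectrum (B (c a))),
      PrimeSpectrum.comap (algebraMap A (B (c a))) q = p := fun p => by
    obtain ⟨p', hp', q, hq'⟩ := Set.mem_iUnion₂.1 (hs (Set.mem_univ p))
    refine ⟨s.equivFin ⟨p', hp'⟩, ?_⟩
    have hpp : c (s.equivFin ⟨p', hp'⟩) = p' := by simp [c]
    rw [hpp]
    exact ⟨q, hq'⟩
  refine DMod.LBC.isDualizing_descent_finite (C := fun a => B (c a))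
    (detects_of_cover'.{u, u + 1} _ hcov) (detects_of_cover'.{u, u} _ hcov) fun a => ?_
  obtain ⟨ω', hω', ⟨e'⟩⟩ := h (B (c a)) (k (c a))
  obtain ⟨e⟩ := nonempty_chart_iso f i (k (c a)) (hc (c a)) eω.symm
  haveI := DerivedOX.TildeEquiv.full (CommRingCat.of (B (c a)))
  haveI := DerivedOX.TildeEquiv.faithful (CommRingCat.of (B (c a)))
  exact DMod.LBC.isDualizing_of_iso
    (((DCoh.tildeD (CommRingCat.of (B (c a)))).preimageIso (e.symm ≪≫ e')).symm ≪≫
      ((DMod.FlatHom.isoLBaseChange A (B (c a))).app ω).symm) hω'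

end Groth.Agent.Lib.DualSch.Pull
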