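import Groth.Agent.Lib.DualSch.Trivial

/-!
# Dualizing complexes and Gorenstein schemes
-/

set_option autoImplicit false
set_option linter.style.haveILetI false

universe u

open CategoryTheory CategoryTheory.Limits AlgebraicGeometry

attribute [local instance] HasDerivedCategory.standard

namespace Groth.Agent.Lib.DualSch.Sch

open Groth.Agent.Lib Perfect.Basic Perfect.Triangle

variable {X : Scheme.{u}}

/-- Affine charts through a point, inside a given open. -/
theorem exists_chart (x : X) (U : X.Opens) (hx : x ∈ U) :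
    ∃ (A : Type u) (_ : CommRing A) (j : Spec (CommRingCat.of A) ⟶ X) (_ : IsOpenImmersion j)
      (p : PrimeSpectrum A), j p = x ∧ Set.range j ⊆ (U : Set X) := by
  obtain ⟨W, hW, hxW, hWU⟩ := exists_isAffineOpen_mem_and_subset (X := X) (x := x) (U := U) hx
  obtain ⟨p, hp⟩ : x ∈ Set.range hW.fromSpec := hW.range_fromSpec.symm ▸ hxW
  exact ⟨Γ(X, W), inferInstance, hW.fromSpec, hW.isOpenImmersion_fromSpec, p, hp,
    by rw [hW.range_fromSpec]; exact hWU⟩

/-- Derived tilde of a module. -/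
noncomputable def tildeSingleIso (R : CommRingCat.{u}) [PreservesFiniteLimits (tilde.functor R)]
    (M : ModuleCat.{u} R) :
    (DCoh.tildeD R).obj ((DerivedCategory.singleFunctor (ModuleCat.{u} R) 0).obj M) ≅
      (DerivedCategory.singleFunctor (Spec (CommRingCat.of R)).Modules 0).obj ((tilde.functor R).obj M) :=
  ((tilde.functor R).mapDerivedCategorySingleFunctor 0).app M

variable [∀ (U : Scheme.{u}) (j : U ⟶ X) [IsOpenImmersion j],
    PreservesFiniteLimits (Scheme.Modules.restrictFunctor j)]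
  [∀ (R : CommRingCat.{u}), PreservesFiniteLimits (tilde.functor R)]
  {K : DCoh.D X} (hK : Dual2.IsDualizingSch X K)

include hK in
/-- If a dualizing complex is invertible, the local rings are Gorenstein. -/
theorem gorenstein_of_invertible (h : Dual3.IsInvertibleD K) (x : X) :
    LocCoh.IsGorensteinLocalRing (X.presheaf.stalk x) := by
  obtain ⟨U, n, hxU, ⟨e₀⟩⟩ := h x
  obtain ⟨A, _, j, _, p, rfl, hjU⟩ := exists_chart x U hxU
  obtain ⟨ω, hω, ⟨e⟩⟩ := hK A j
  have hr : Set.range j ⊆ Set.range U.ι := by rwa [Scheme.Opens.range_ι]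
  let k := IsOpenImmersion.lift U.ι j hr
  have hk : k ≫ U.ι = j := IsOpenImmersion.lift_fac _ _ _
  haveI : IsOpenImmersion (k ≫ U.ι) := hk ▸ ‹_›
  haveI : IsOpenImmersion k := IsOpenImmersion.of_comp k U.ι
  obtain ⟨e₁⟩ := Invertible.nonempty_RD_comp k U.ι e₀
  obtain ⟨e₂⟩ := Invertible.nonempty_tildeD_self (A := A) n
  haveI := DerivedOX.TildeEquiv.full (CommRingCat.of A)
  haveI := DerivedOX.TildeEquiv.faithful (CommRingCat.of A)
  let e₃ : ω ≅ (Dual.inD A A)⟦n⟧ := (DCoh.tildeD (CommRingCat.of A)).preimageIso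
    (e.symm ≪≫ RDCongr hk.symm K ≪≫ e₁ ≪≫ e₂.symm)
  obtain ⟨ε⟩ := Affine.nonempty_stalk_equiv j p
  exact (Goren.Flat.isGorensteinLocalRing_ringEquiv_iff ε).2
    (Invertible.gorenstein_of_dualizing_self hω e₃ p)

include hK in
/-- On a Gorenstein scheme a dualizing complex is invertible. -/
theorem invertible_of_gorenstein
    (h : ∀ x : X, LocCoh.IsGorensteinLocalRing (X.presheaf.stalk x)) : Dual3.IsInvertibleD K := by
  intro x
  obtain ⟨A, _, j, _, p, rfl, -⟩ := exists_chart x ⊤ trivial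
  obtain ⟨ω, hω, ⟨e⟩⟩ := hK A j
  obtain ⟨ε⟩ := Affine.nonempty_stalk_equiv j p
  obtain ⟨V, n, hpV, ⟨eV⟩⟩ := Trivial.exists_trivial_nhd hω p
    ((Goren.Flat.isGorensteinLocalRing_ringEquiv_iff ε).1 (h (j p)))
  obtain ⟨e'⟩ := Invertible.exists_opens (V.ι ≫ j) (RDComp V.ι j K ≪≫ (RD V.ι).mapIso e ≪≫ eV)
  exact ⟨(V.ι ≫ j).opensRange, n, ⟨⟨p, hpV⟩, rfl⟩, ⟨e'⟩⟩

include hK in
/-- A Gorenstein scheme with a dualizing complex is dualized by its structure sheaf. -/
theorem isDualizing_structureSheaf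
    (h : ∀ x : X, LocCoh.IsGorensteinLocalRing (X.presheaf.stalk x)) :
    Dual2.IsDualizingSch X (DCoh.inD X (Coh.structureModule X)) := by
  intro A _ j _
  obtain ⟨ω, hω, -⟩ := hK A j
  refine ⟨Dual.inD A A, Invertible.isDualizing_self_of_gorenstein hω fun p => ?_, ⟨?_⟩⟩
  · obtain ⟨ε⟩ := Affine.nonempty_stalk_equiv j p
    exact (Goren.Flat.isGorensteinLocalRing_ringEquiv_iff ε).1 (h (j p))
  · exact Perfect.Regular.RDinD j _ ≪≫
      (DerivedCategory.singleFunctor _ 0).mapIso (Scheme.Modules.restrictUnitIso j ≪≫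
        (tildeSelf (R := CommRingCat.of A)).symm) ≪≫
      (tildeSingleIso (CommRingCat.of A) (ModuleCat.of A A)).symm

end Groth.Agent.Lib.DualSch.Sch
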