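import Groth.Agent.Lib.DualSch.Stalks
import Groth.Agent.Lib.DMod.Bottom

/-!
# Stalks of dualizing complexes
-/

set_option autoImplicit false
set_option linter.style.haveILetI false

universe u

open CategoryTheory CategoryTheory.Limits AlgebraicGeometry

attribute [local instance] HasDerivedCategory.standard

namespace Groth.Agent.Lib.DualSch.StalkLocal

open Groth.Agent.Lib Perfect.Basic Modules StalkModule

section Stalk

variable {X U : Scheme.{u}} (j : U ⟶ X) [IsOpenImmersion j] (z : U)

/-- Stalks of a restriction, as modules over the local ring of the ambient scheme. -/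
noncomputable def stalkModIso :
    Scheme.Modules.restrictFunctor j ⋙ stalkModFunctor U z ⋙
        ModuleCat.restrictScalars (asIso (j.stalkMap z)).commRingCatIsoToRingEquiv.toRingHom ≅
      stalkModFunctor X (j z) :=
  NatIso.ofComponents
    (fun M => LinearEquiv.toModuleIso (R := X.presheaf.stalk (j z))
      (m₁ := ((Scheme.Modules.restrictFunctor j ⋙ stalkModFunctor U z ⋙
        ModuleCat.restrictScalars (asIso (j.stalkMap z)).commRingCatIsoToRingEquiv.toRingHom).obj M).isModule)
      (m₂ := ((stalkModFunctor X (j z)).obj M).isModule)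
      { StalkRestrict.restrictStalkAddEquiv j M z with
        map_smul' := fun a w => by
          let w' : (M.restrict j).presheaf.stalk z := w
          show StalkRestrict.restrictStalkAddEquiv j M z (j.stalkMap z a • w') =
            a • StalkRestrict.restrictStalkAddEquiv j M z w'
          exact StalkRestrict.restrictStalkAddEquiv_smul j M z a w' })
    (fun {M N} φ => by
      ext w
      obtain ⟨V, hV, m, rfl⟩ := (M.restrict j).presheaf.exists_germ_eq (x := z) w
      show StalkRestrict.restrictStalkAddEquiv j N z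
          (stalkMapₗ ((Scheme.Modules.restrictFunctor j).map φ) z ((M.restrict j).presheaf.germ V z hV m)) =
        stalkMapₗ φ (j z) (StalkRestrict.restrictStalkAddEquiv j M z
          ((M.restrict j).presheaf.germ V z hV m))
      erw [stalkMapₗ_germ, StalkRestrict.restrictStalkAddEquiv_germ,
        StalkRestrict.restrictStalkAddEquiv_germ, stalkMapₗ_germ]
      rfl)

end Stalk

/-- The derived tilde followed by a stalk is extension of scalars to the local ring. -/
theorem nonempty_L_stalk_iso {A : Type u} [CommRing A]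
    [PreservesFiniteLimits (tilde.functor (CommRingCat.of A))]
    (z : Spec (CommRingCat.of A)) (ω : Dual.D A) :
    letI : Algebra A ((Spec (CommRingCat.of A)).presheaf.stalk z) :=
      StructureSheaf.stalkAlgebra (CommRingCat.of A) z
    ∀ [Module.Flat A ((Spec (CommRingCat.of A)).presheaf.stalk z)],
      Nonempty ((DMod.FlatHom.L A ((Spec (CommRingCat.of A)).presheaf.stalk z)).obj ω ≅
        (stalkModFunctor (Spec (CommRingCat.of A)) z).mapDerivedCategory.obj
          ((DCoh.tildeD (CommRingCat.of A)).obj ω)) := by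
  intro _
  let R := CommRingCat.of A
  letI : Algebra A ((Spec R).presheaf.stalk z) := StructureSheaf.stalkAlgebra R z
  haveI : Module.Flat A ((Spec R).presheaf.stalk z) := ‹_›
  haveI : PreservesFiniteLimits (ModuleCat.extendScalars.{u, u, u} (DerivedOX.TildeStalk.σ R z)) :=
    DR.FlatBC.preservesFiniteLimits (A := A) (B := (Spec R).presheaf.stalk z)
  haveI : PreservesFiniteColimits (ModuleCat.extendScalars.{u, u, u} (DerivedOX.TildeStalk.σ R z)) :=
    DR.FlatBC.preservesFiniteColimits (A := A) (B := (Spec R).presheaf.stalk z)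
  let E := DerivedCategory.Q.objPreimage ω
  let i := DerivedCategory.Q.objObjPreimageIso ω
  let S := stalkModFunctor (Spec R) z
  exact ⟨(DMod.FlatHom.L A ((Spec R).presheaf.stalk z)).mapIso i.symm ≪≫
      DR.ExactPush.mapQ (ModuleCat.extendScalars.{u, u, u} (DerivedOX.TildeStalk.σ R z)) E ≪≫
      DerivedCategory.Q.mapIso ((NatIso.mapHomologicalComplex (DerivedOX.TildeStalk.tildeStalkIso R z)
        (ComplexShape.up ℤ)).app E) ≪≫
      (DR.ExactPush.mapQ S (((tilde.functor R).mapHomologicalComplex (ComplexShape.up ℤ)).obj E)).symm ≪≫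
      S.mapDerivedCategory.mapIso ((Stalks.tildeQ R E).symm ≪≫ (DCoh.tildeD R).mapIso i)⟩

section Scheme

variable {X : Scheme.{u}} [∀ (U : Scheme.{u}) (j : U ⟶ X) [IsOpenImmersion j],
    PreservesFiniteLimits (Scheme.Modules.restrictFunctor j)]
  [∀ (R : CommRingCat.{u}), PreservesFiniteLimits (tilde.functor R)]

/-- The stalk of a dualizing complex is a dualizing complex of the local ring. -/
theorem exists_dualizing_stalk {K : DCoh.D X} (hK : Dual2.IsDualizingSch X K) (x : X) :
    ∃ τ : Dual.D (X.presheaf.stalk x), Dual.IsDualizing (X.presheaf.stalk x) τ ∧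
      ∀ i : ℤ, Nonempty (Dual.HD (X.presheaf.stalk x) τ i ≃ₗ[X.presheaf.stalk x]
        (DCoh.HD K i).presheaf.stalk x) := by
  obtain ⟨A, _, j, _, p, rfl, -⟩ := Sch.exists_chart x ⊤ trivial
  let z : ↥(Spec (CommRingCat.of A)) := p
  show ∃ τ : Dual.D (X.presheaf.stalk (j z)), Dual.IsDualizing (X.presheaf.stalk (j z)) τ ∧
    ∀ i : ℤ, Nonempty (Dual.HD (X.presheaf.stalk (j z)) τ i ≃ₗ[X.presheaf.stalk (j z)]
      (DCoh.HD K i).presheaf.stalk (j z))
  let SX := stalkModFunctor X (j z)
  let E := DerivedCategory.Q.objPreimage K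
  let eE := DerivedCategory.Q.objObjPreimageIso K
  refine ⟨SX.mapDerivedCategory.obj K, ?_, fun i => ⟨((DerivedCategory.homologyFunctor _ i).mapIso
      (SX.mapDerivedCategory.mapIso eE.symm ≪≫ DR.ExactPush.mapQ SX E) ≪≫
    (DerivedCategory.homologyFunctorFactors _ i).app _ ≪≫ (E.sc i).mapHomologyIso SX ≪≫
    SX.mapIso (((DerivedCategory.homologyFunctorFactors X.Modules i).app _).symm ≪≫
      (DerivedCategory.homologyFunctor X.Modules i).mapIso eE)).toLinearEquiv⟩⟩
  obtain ⟨ω, hω, ⟨e⟩⟩ := hK A j
  haveI := hω.isNoetherianRing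
  let C : Type u := (Spec (CommRingCat.of A)).presheaf.stalk z
  letI : Algebra A C := StructureSheaf.stalkAlgebra (CommRingCat.of A) z
  haveI : IsLocalization.AtPrime C p.asIdeal :=
    StructureSheaf.IsLocalization.to_stalk (CommRingCat.of A) z
  haveI : Module.Flat A C := IsLocalization.flat C p.asIdeal.primeCompl
  haveI : IsNoetherianRing C := IsLocalization.isNoetherianRing p.asIdeal.primeCompl _ inferInstance
  have hL : Dual.IsDualizing C ((DMod.FlatHom.L A C).obj ω) :=
    DMod.FlatDualizing.isDualizing_L C hω (DMod.FlatDualizing.fid_L_of_extended C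
      (DMod.FlatDualizing.bddFin_of_dualizing hω) hω.finite_injective_dimension
      (DMod.LBC.extended_localization p.asIdeal.primeCompl))
  obtain ⟨i1⟩ := nonempty_L_stalk_iso z ω
  let SA := stalkModFunctor (Spec (CommRingCat.of A)) z
  let G := ModuleCat.restrictScalars.{u} (asIso (j.stalkMap z)).commRingCatIsoToRingEquiv.toRingHom
  let i2 : G.mapDerivedCategory.obj (SA.mapDerivedCategory.obj ((RD j).obj K)) ≅
      SX.mapDerivedCategory.obj K :=
    G.mapDerivedCategory.mapIso (SA.mapDerivedCategory.mapIso ((RD j).mapIso eE.symm ≪≫ RDQ j E) ≪≫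
      DR.ExactPush.mapQ SA _) ≪≫ DR.ExactPush.mapQ G _ ≪≫
    DerivedCategory.Q.mapIso ((NatIso.mapHomologicalComplex (stalkModIso j z) (ComplexShape.up ℤ)).app E) ≪≫
    (DR.ExactPush.mapQ SX E).symm ≪≫ SX.mapDerivedCategory.mapIso eE
  exact DMod.LBC.isDualizing_of_iso
    (G.mapDerivedCategory.mapIso (i1 ≪≫ SA.mapDerivedCategory.mapIso e.symm) ≪≫ i2)
    (Stalks.isDualizing_restrict (asIso (j.stalkMap z)).commRingCatIsoToRingEquiv hL)

end Scheme

section Ring

variable {A : Type u} [CommRing A] [IsNoetherianRing A] {ω : Dual.D A} (hω : Dual.IsDualizing A ω)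
  {n : ℤ} (hlow : ∀ i, i < n → Subsingleton (Dual.HD A ω i))
include hω hlow

/-- Degrees are bounded below by the lowest cohomological degree. -/
theorem le_deg (q : PrimeSpectrum A) : n ≤ DMod.Degree.deg hω q := by
  obtain ⟨P, hP, hPq⟩ := Ideal.exists_minimalPrimes_le (bot_le : ⊥ ≤ q.asIdeal)
  let p : PrimeSpectrum A := ⟨P, hP.1.1⟩
  refine le_trans ?_ (DMod.Degree.deg_le hω (show p ≤ q from hPq))
  by_contra hc
  have hs : p ∈ Module.support A A := by
    rw [Module.support_eq_zeroLocus, Module.annihilator_eq_bot.mpr inferInstance,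
      Submodule.bot_coe, PrimeSpectrum.zeroLocus_singleton_zero]
    trivial
  have h := DMod.Degree.mem_support_hom_of_minimal_deg hω p p le_rfl A hs
    (fun r hrp _ => le_of_eq (congrArg (DMod.Degree.deg hω) (PrimeSpectrum.ext
      (le_antisymm (hP.2 ⟨r.isPrime, bot_le⟩ hrp) hrp))))
  haveI := hlow _ (not_le.1 hc)
  rw [LinearEquiv.support_eq (DMod.Basic.homUnitShiftEquiv ω _), Module.support_eq_empty] at h
  exact h

/-- The lowest cohomology module of a dualizing complex satisfies `(S₂)`. -/
theorem hasSk_two_lowest {L : Type u} [AddCommGroup L] [Module A L]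
    (e : Dual.HD A ω n ≃ₗ[A] L) : LocCoh.HasSk 2 A L :=
  DMod.Bottom.hasSk_two_bottom hω (e.symm.trans (DMod.Basic.homUnitShiftEquiv ω n).symm)
    fun q _ => le_deg hω hlow q

/-- Over a domain the lowest cohomology module of a dualizing complex is torsion-free. -/
theorem smul_injective_lowest [IsDomain A] {L : Type u} [AddCommGroup L] [Module A L]
    (e : Dual.HD A ω n ≃ₗ[A] L) (y : A) (hy : y ≠ 0) : Function.Injective (fun l : L => y • l) := by
  have h := (DMod.Bottom.exists_bottom_seq hω A n (fun q _ => le_deg hω hlow q) y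
    fun q _ hq => lt_of_le_of_lt (le_deg hω hlow ⟨⊥, Ideal.isPrime_bot⟩)
      (DMod.Degree.deg_lt hω (lt_of_le_of_ne (show (⟨⊥, Ideal.isPrime_bot⟩ : PrimeSpectrum A) ≤ q
        from bot_le) fun he => hy (by simpa [← he] using hq)))).1
  let g := (DMod.Basic.homUnitShiftEquiv ω n).trans e
  intro a b hab
  obtain ⟨a, rfl⟩ := g.surjective a
  obtain ⟨b, rfl⟩ := g.surjective b
  exact congrArg g (h (g.injective (by simpa only [map_smul] using hab)))

end Ring

end Groth.Agent.Lib.DualSch.StalkLocal
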