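import Groth.Agent.Lib.DualSch.Pull
import Groth.Agent.Lib.SiteCmp29.GammaZ
import Groth.Agent.Lib.DerivedOX.TildeStalk
import Groth.Agent.Lib.Modules.StalkRestrict
import Groth.Agent.Lib.Perfect.TildeFT
import Groth.Prelude.Def_DerSch

/-!
# Dualizing complexes detected on stalks
-/

set_option autoImplicit false
set_option linter.style.haveILetI false

universe u

open CategoryTheory CategoryTheory.Limits AlgebraicGeometry TensorProduct

attribute [local instance] HasDerivedCategory.standard

namespace Groth.Agent.Lib.DualSch.Stalks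

open Groth.Agent.Lib Perfect.Basic Modules StalkModule

section Generic

variable {C D : Type*} [Category C] [Category D] [Abelian C] [Abelian D] [HasDerivedCategory C]
  [HasDerivedCategory D]

/-- Isomorphic exact functors give isomorphic derived functors, on objects. -/
theorem nonempty_mapDerived_iso {F G : C ⥤ D} [F.Additive] [PreservesFiniteLimits F]
    [PreservesFiniteColimits F] [G.Additive] [PreservesFiniteLimits G] [PreservesFiniteColimits G]
    (ν : F ≅ G) (M : DerivedCategory C) :
    Nonempty (F.mapDerivedCategory.obj M ≅ G.mapDerivedCategory.obj M) := by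
  let i := DerivedCategory.Q.objObjPreimageIso M
  exact ⟨F.mapDerivedCategory.mapIso i.symm ≪≫ DR.ExactPush.mapQ F _ ≪≫
    DerivedCategory.Q.mapIso ((NatIso.mapHomologicalComplex ν (ComplexShape.up ℤ)).app _) ≪≫
    (DR.ExactPush.mapQ G _).symm ≪≫ G.mapDerivedCategory.mapIso i⟩

/-- No maps from a single object into a bounded complex of injectives outside its range. -/
theorem subsingleton_hom_single_shift (M : C) (I : CochainComplex C ℤ) (a : ℤ) [I.IsStrictlyGE a]
    [∀ n, Injective (I.X n)] (i : ℤ) (hi : IsZero (I.X i)) :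
    Subsingleton ((DerivedCategory.singleFunctor C 0).obj M ⟶ (DerivedCategory.Q.obj I)⟦i⟧) := by
  haveI : (I⟦i⟧).IsStrictlyGE (a - i) := CochainComplex.isStrictlyGE_shift I a i (a - i) (by lia)
  haveI : ∀ n, Injective ((I⟦i⟧).X n) := fun n => inferInstanceAs (Injective (I.X (n + i)))
  haveI : (I⟦i⟧).IsKInjective := CochainComplex.isKInjective_of_injective _ (a - i)
  let e : (DerivedCategory.Q.obj I)⟦i⟧ ≅ DerivedCategory.Q.obj (I⟦i⟧) :=
    ((DerivedCategory.Q.commShiftIso i).app I).symm
  let s : (DerivedCategory.singleFunctor C 0).obj M ≅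
      DerivedCategory.Q.obj ((CochainComplex.singleFunctor C 0).obj M) :=
    (DerivedCategory.singleFunctorIsoCompQ C 0).app M
  refine ⟨fun f g => ?_⟩
  suffices ∀ h : DerivedCategory.Q.obj ((CochainComplex.singleFunctor C 0).obj M) ⟶
      DerivedCategory.Q.obj (I⟦i⟧), h = 0 by
    rw [← cancel_epi s.inv, ← cancel_mono e.hom]
    exact (this _).trans (this _).symm
  intro h
  obtain ⟨φ, rfl⟩ := DerivedOX.TildeEquiv.exists_map_of_kinj h
  have hφ : φ = 0 := by
    apply HomologicalComplex.from_single_hom_ext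
    have hz : IsZero ((I⟦i⟧).X 0) := by
      show IsZero (I.X (0 + i))
      rwa [zero_add]
    exact hz.eq_of_tgt _ _
  rw [hφ, Functor.map_zero]

/-- Derived tilde on a complex. -/
noncomputable def tildeQ (R : CommRingCat.{u}) [PreservesFiniteLimits (tilde.functor R)]
    (E : CochainComplex (ModuleCat.{u} R) ℤ) :
    (DCoh.tildeD R).obj (DerivedCategory.Q.obj E) ≅
      DerivedCategory.Q.obj (((tilde.functor R).mapHomologicalComplex (ComplexShape.up ℤ)).obj E) :=
  DR.ExactPush.mapQ (tilde.functor R) E

end Generic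

section Transport

/-- Restriction along a ring isomorphism keeps dualizing complexes. -/
theorem isDualizing_restrict {R S : Type u} [CommRing R] [CommRing S] (e : S ≃+* R) {ω : Dual.D R}
    (hω : Dual.IsDualizing R ω) :
    Dual.IsDualizing S ((ModuleCat.restrictScalars e.toRingHom).mapDerivedCategory.obj ω) := by
  haveI := hω.isNoetherianRing
  letI : Algebra R S := e.symm.toRingHom.toAlgebra
  haveI : IsNoetherianRing S := isNoetherianRing_of_ringEquiv R e.symm
  haveI : Module.Flat R S :=
    Module.Flat.of_linearEquiv (LinearEquiv.ofBijective (Algebra.linearMap R S) e.symm.bijective).symm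
  haveI : PreservesFiniteLimits (ModuleCat.extendScalars.{u, u, u} (algebraMap R S)) :=
    DR.FlatBC.preservesFiniteLimits (A := R) (B := S)
  haveI : PreservesFiniteColimits (ModuleCat.extendScalars.{u, u, u} (algebraMap R S)) :=
    DR.FlatBC.preservesFiniteColimits (A := R) (B := S)
  let ν : ModuleCat.extendScalars.{u, u, u} (algebraMap R S) ≅
      ModuleCat.restrictScalars.{u} e.toRingHom :=
    (ModuleCat.extendRestrictScalarsAdj.{u} (algebraMap R S)).leftAdjointUniq
      (ModuleCat.restrictScalarsEquivalenceOfRingEquiv e.symm).symm.toAdjunction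
  obtain ⟨i⟩ := nonempty_mapDerived_iso ν ω
  have hext : ∀ J : Ideal S, ∃ I : Ideal R, I.map (algebraMap R S) = J := fun J =>
    ⟨_, Ideal.map_comap_of_surjective (algebraMap R S) e.symm.surjective J⟩
  exact DMod.LBC.isDualizing_of_iso i (DMod.FlatDualizing.isDualizing_L S hω
    (DMod.FlatDualizing.fid_L_of_extended S (DMod.FlatDualizing.bddFin_of_dualizing hω)
      hω.finite_injective_dimension hext))

end Transport

section Scheme

variable {X U : Scheme.{u}} (j : U ⟶ X) [IsOpenImmersion j] (z : U)

/-- The comparison of local rings. -/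
noncomputable def ringIso :
    X.presheaf.stalk ((𝟙 X : X ⟶ X).base (j z)) ≅ U.presheaf.stalk z :=
  haveI : IsIso ((𝟙 X : X ⟶ X).stalkMap (j z)) := inferInstance
  haveI : IsIso (j.stalkMap z) := inferInstance
  asIso ((𝟙 X : X ⟶ X).stalkMap (j z)) ≪≫ asIso (j.stalkMap z)

/-- Stalks of a restriction, as modules over the local ring of `X`. -/
noncomputable def stalkIso :
    Scheme.Modules.restrictFunctor j ⋙ stalkModFunctor U z ≅
      DerSch.stalkOver (𝟙 X) (j z) ⋙
        ModuleCat.restrictScalars (ringIso j z).symm.commRingCatIsoToRingEquiv.toRingHom :=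
  NatIso.ofComponents
    (fun M => LinearEquiv.toModuleIso (R := U.presheaf.stalk z)
      (m₁ := ((Scheme.Modules.restrictFunctor j ⋙ stalkModFunctor U z).obj M).isModule)
      (m₂ := ((DerSch.stalkOver (𝟙 X) (j z) ⋙
        ModuleCat.restrictScalars (ringIso j z).symm.commRingCatIsoToRingEquiv.toRingHom).obj M).isModule)
      { StalkRestrict.restrictStalkAddEquiv j M z with
        map_smul' := fun c w => by
          let w' : (M.restrict j).presheaf.stalk z := w
          let a : X.presheaf.stalk (j z) :=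
            ((𝟙 X : X ⟶ X).stalkMap (j z)).hom ((ringIso j z).inv c)
          show StalkRestrict.restrictStalkAddEquiv j M z (c • w') =
            a • StalkRestrict.restrictStalkAddEquiv j M z w'
          have hc : c = j.stalkMap z a :=
            (ConcreteCategory.congr_hom (ringIso j z).inv_hom_id c).symm
          rw [← StalkRestrict.restrictStalkAddEquiv_smul j M z a w', ← hc] })
    (fun {M N} φ => by
      ext w
      obtain ⟨V, hV, m, rfl⟩ := (M.restrict j).presheaf.exists_germ_eq (x := z) w
      show StalkRestrict.restrictStalkAddEquiv j N z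
          (stalkMapₗ ((Scheme.Modules.restrictFunctor j).map φ) z ((M.restrict j).presheaf.germ V z hV m)) =
        (DerSch.stalkFunctor X (j z)).map φ (StalkRestrict.restrictStalkAddEquiv j M z
          ((M.restrict j).presheaf.germ V z hV m))
      erw [stalkMapₗ_germ, StalkRestrict.restrictStalkAddEquiv_germ,
        StalkRestrict.restrictStalkAddEquiv_germ, DerSch.stalkFunctor_map_germ]
      rfl)

end Scheme

section Main

variable {X : Scheme.{u}} [IsNoetherian X]
  [∀ (U : Scheme.{u}) (j : U ⟶ X) [IsOpenImmersion j],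
    PreservesFiniteLimits (Scheme.Modules.restrictFunctor j)]
  [∀ (R : CommRingCat.{u}), PreservesFiniteLimits (tilde.functor R)]

/-- A bounded complex of injectives with coherent cohomology and dualizing stalks is dualizing. -/
theorem isDualizingSch_of_stalks (I : CochainComplex X.Modules ℤ) (hIinj : ∀ i : ℤ, Injective (I.X i))
    (a b : ℤ) (hI : ∀ i : ℤ, (i < a ∨ b < i) → IsZero (I.X i))
    (hcoh : ∀ i : ℤ, Coh.IsCoh (DCoh.HD (DCoh.toD X I) i))
    (hst : ∀ x : X, Dual.IsDualizing (X.presheaf.stalk ((𝟙 X : X ⟶ X).base x))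
      (DRing.toD ((DerSch.stalkCxOver (𝟙 X) x).obj I))) :
    Dual2.IsDualizingSch X (DCoh.toD X I) := by
  intro A _ j _
  let R := CommRingCat.of A
  obtain ⟨ω, ⟨eω⟩⟩ := DerivedOX.TildeEquiv.exists_preimage R _
    (DerivedOX.QCohLocal.isQCohD_restrictD j (K := DCoh.toD X I) fun i => (hcoh i).1)
  refine ⟨ω, ?_, ⟨eω.symm⟩⟩
  haveI : IsNoetherianRing A :=
    haveI := isLocallyNoetherian_of_isOpenImmersion j
    (isLocallyNoetherian_Spec (R := CommRingCat.of A)).1 ‹_›
  -- the complex on the chart
  let J := (rC j).obj I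
  let eJ : (DCoh.tildeD R).obj ω ≅ DerivedCategory.Q.obj J := eω ≪≫ RDQ j I
  have hJz : ∀ i : ℤ, (i < a ∨ b < i) → IsZero (J.X i) := fun i hi =>
    (Scheme.Modules.restrictFunctor j).map_isZero (hI i hi)
  haveI : J.IsStrictlyGE a :=
    (CochainComplex.isStrictlyGE_iff J a).2 fun i hi => hJz i (Or.inl hi)
  haveI : ∀ n, Injective (J.X n) := fun n =>
    haveI := hIinj n
    (SiteCmp29.GammaZ.restrict_preservesInjectiveObjects j).injective_obj inferInstance
  -- finite cohomology, bounded
  have hfin : DMod.Conservative.BddFin ω := by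
    refine ⟨fun i => ?_, a, b, fun i hi => ?_⟩
    · let φ : (DCoh.HD (DCoh.toD X I) i).restrict j ≅
          (tilde.functor R).obj (ModuleCat.of A (Dual.HD A ω i)) :=
        (Perfect.Coherent.homologyIso j (DCoh.toD X I) i).symm ≪≫
          (DerivedCategory.homologyFunctor _ i).mapIso eω.symm ≪≫ Perfect.TildeD.HIso (R := R) ω i
      have hW : IsAffineOpen (j ''ᵁ ⊤) := (isAffineOpen_top _).image_of_isOpenImmersion j
      haveI : Coh.IsQCoh ((DCoh.HD (DCoh.toD X I) i).restrict j) :=
        @Scheme.Modules.isQuasicoherent_restrictFunctor _ _ j _ _ (hcoh i).1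
      have hc : Coh.IsCoh ((DCoh.HD (DCoh.toD X I) i).restrict j) :=
        ⟨inferInstance, CohBasics.Affine.isFiniteType_of_finite_sections fun x =>
          ⟨⊤, isAffineOpen_top _, trivial, (TensorMod.TensorQCoh.finite_restrict_iff j _ ⊤).2
            (CohBasics.Closure.finite_sections (hcoh i) hW)⟩⟩
      exact Perfect.TildeFT.finite_of_isFT (R := R) (ModuleCat.of A (Dual.HD A ω i))
        (CohBasics.Closure.isCoh_of_iso φ hc).2
    · have h0 : IsZero (DCoh.HD (DerivedCategory.Q.obj J) i) :=
        (HomologicalComplex.ExactAt.isZero_homology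
          (HomologicalComplex.ExactAt.of_isZero (hJz i hi))).of_iso
          ((DerivedCategory.homologyFunctorFactors _ i).app J)
      have h1 : IsZero ((tilde.functor R).obj (ModuleCat.of A (Dual.HD A ω i))) :=
        h0.of_iso ((Perfect.TildeD.HIso (R := R) ω i).symm ≪≫
          (DerivedCategory.homologyFunctor _ i).mapIso eJ)
      exact ModuleCat.subsingleton_of_isZero (Perfect.TildeD.isZero_of_tilde h1)
  have hfid : ∃ a b : ℤ, ∀ (M : Type u) [AddCommGroup M] [Module A M] (i : ℤ),
      (i < a ∨ b < i) → Subsingleton (Dual.inD A M ⟶ ω⟦i⟧) := by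
    refine ⟨a, b, fun M _ _ i hi => ?_⟩
    haveI := DerivedOX.TildeEquiv.full R
    haveI := DerivedOX.TildeEquiv.faithful R
    haveI := subsingleton_hom_single_shift ((tilde.functor R).obj (ModuleCat.of A M)) J a i (hJz i hi)
    let e1 := Iso.homCongr (Sch.tildeSingleIso R (ModuleCat.of A M))
      (((DCoh.tildeD R).commShiftIso i).app ω ≪≫ (shiftFunctor _ i).mapIso eJ)
    exact ((Functor.FullyFaithful.ofFullyFaithful (DCoh.tildeD R)).homEquiv.trans e1).subsingleton
  -- the local rings
  let C : PrimeSpectrum A → Type u := fun p => (Spec R).presheaf.stalk p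
  letI : ∀ p, CommRing (C p) := fun p => inferInstanceAs (CommRing ((Spec R).presheaf.stalk p))
  letI : ∀ p, Algebra A (C p) := fun p => StructureSheaf.stalkAlgebra R p
  haveI hloc : ∀ p : PrimeSpectrum A, IsLocalization.AtPrime (C p) p.asIdeal :=
    fun p => StructureSheaf.IsLocalization.to_stalk R p
  haveI : ∀ p, Module.Flat A (C p) := fun p => IsLocalization.flat (C p) p.asIdeal.primeCompl
  haveI : ∀ p, DRing.HasLBaseChange (algebraMap A (C p)) := fun p =>
    DR.BaseChangeU.hasLBaseChange _
  have hcov : ∀ q : PrimeSpectrum A, ∃ (p : PrimeSpectrum A) (r : PrimeSpectrum (C p)),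
      PrimeSpectrum.comap (algebraMap A (C p)) r = q := fun q => by
    haveI : IsLocalRing (C q) := IsLocalization.AtPrime.isLocalRing (C q) q.asIdeal
    exact ⟨q, IsLocalRing.closedPoint (C q),
      PrimeSpectrum.ext (IsLocalization.AtPrime.under_maximalIdeal (C q) q.asIdeal)⟩
  have hdet : DMod.FlatDualizing.Detects (A := A) C := by
    intro M _ _ hM
    refine subsingleton_of_forall_eq 0 fun m => ?_
    by_contra hm
    obtain ⟨P, hP, hle⟩ := Ideal.exists_le_maximal (LinearMap.ker (LinearMap.toSpanSingleton A M m))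
      (fun h => hm ((LinearMap.toSpanSingleton_apply_one A M m).symm.trans (LinearMap.mem_ker.1 (show (1 : A) ∈ LinearMap.ker (LinearMap.toSpanSingleton A M m) from h.symm ▸ Submodule.mem_top))))
    haveI := hP.isPrime
    haveI := hM ⟨P, inferInstance⟩
    haveI : IsLocalization P.primeCompl (C ⟨P, inferInstance⟩) := hloc ⟨P, inferInstance⟩
    haveI : IsLocalizedModule P.primeCompl (TensorProduct.mk A (C ⟨P, inferInstance⟩) M 1) :=
      (isLocalizedModule_iff_isBaseChange P.primeCompl (C ⟨P, inferInstance⟩) _).2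
        (TensorProduct.isBaseChange A M (C ⟨P, inferInstance⟩))
    have h0 : TensorProduct.mk A (C ⟨P, inferInstance⟩) M 1 m = 0 := Subsingleton.elim _ _
    obtain ⟨⟨s, hs'⟩, hs⟩ := (IsLocalizedModule.eq_zero_iff (P.primeCompl)
      (TensorProduct.mk A (C ⟨P, inferInstance⟩) M 1)).1 h0
    exact hs' (hle hs)
  refine DMod.LBC.isDualizing_descent' hdet hfin hfid fun p => ?_
  let z : Spec R := p
  haveI : PreservesFiniteLimits (ModuleCat.extendScalars.{u, u, u} (DerivedOX.TildeStalk.σ R z)) :=
    DR.FlatBC.preservesFiniteLimits (A := A) (B := C p)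
  haveI : PreservesFiniteColimits (ModuleCat.extendScalars.{u, u, u} (DerivedOX.TildeStalk.σ R z)) :=
    DR.FlatBC.preservesFiniteColimits (A := A) (B := C p)
  let E := DerivedCategory.Q.objPreimage ω
  let S := stalkModFunctor (Spec R) z
  let i1 : (DMod.FlatHom.L A (C p)).obj ω ≅
      S.mapDerivedCategory.obj ((DCoh.tildeD R).obj ω) :=
    let i := DerivedCategory.Q.objObjPreimageIso ω
    (DMod.FlatHom.L A (C p)).mapIso i.symm ≪≫
      DR.ExactPush.mapQ (ModuleCat.extendScalars.{u, u, u} (DerivedOX.TildeStalk.σ R z)) E ≪≫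
      DerivedCategory.Q.mapIso ((NatIso.mapHomologicalComplex (DerivedOX.TildeStalk.tildeStalkIso R z)
        (ComplexShape.up ℤ)).app E) ≪≫
      (DR.ExactPush.mapQ S (((tilde.functor R).mapHomologicalComplex (ComplexShape.up ℤ)).obj E)).symm ≪≫
      S.mapDerivedCategory.mapIso ((tildeQ R E).symm ≪≫ (DCoh.tildeD R).mapIso i)
  let F := ModuleCat.restrictScalars.{u} (ringIso j z).symm.commRingCatIsoToRingEquiv.toRingHom
  let i2 : S.mapDerivedCategory.obj ((DCoh.tildeD R).obj ω) ≅
      F.mapDerivedCategory.obj (DRing.toD ((DerSch.stalkCxOver (𝟙 X) (j z)).obj I)) :=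
    S.mapDerivedCategory.mapIso eJ ≪≫ DR.ExactPush.mapQ S J ≪≫
      DerivedCategory.Q.mapIso ((NatIso.mapHomologicalComplex (stalkIso j z) (ComplexShape.up ℤ)).app I) ≪≫
      (DR.ExactPush.mapQ F ((DerSch.stalkCxOver (𝟙 X) (j z)).obj I)).symm
  exact DMod.LBC.isDualizing_of_iso ((i1 ≪≫ i2).symm ≪≫
      ((DMod.FlatHom.isoLBaseChange A (C p)).app ω).symm)
    (isDualizing_restrict (ringIso j z).symm.commRingCatIsoToRingEquiv (hst (j z)))

end Main

end Groth.Agent.Lib.DualSch.Stalks
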